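import Groth.Agent.Lib.Mero.Sections

/-! # Weakly associated points of a scheme via the local ring -/

set_option autoImplicit false
universe u
open CategoryTheory AlgebraicGeometry TopologicalSpace Opposite

namespace GrothLib.Mero

variable {X : Scheme.{u}}

theorem isAssPoint_structure_iff (x : X) :
    Curv2.IsAssPoint (Coh.structureModule X) x ↔
      IsAssociatedPrime (IsLocalRing.maximalIdeal (X.presheaf.stalk x)) (X.presheaf.stalk x) := by
  obtain ⟨e⟩ : Nonempty ((Coh.structureModule X).presheaf.stalk x ≃ₗ[X.presheaf.stalk x] X.presheaf.stalk x) :=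
    (GrothLib.AssPts.exists_stalk_unit_equiv x).map LinearEquiv.symm
  exact LinearEquiv.isAssociatedPrime_iff e

theorem nontrivial_stalk_structure (x : X) : Nontrivial ((Coh.structureModule X).presheaf.stalk x) := by
  obtain ⟨e⟩ : Nonempty ((Coh.structureModule X).presheaf.stalk x ≃ₗ[X.presheaf.stalk x] X.presheaf.stalk x) :=
    (GrothLib.AssPts.exists_stalk_unit_equiv x).map LinearEquiv.symm
  exact e.toEquiv.nontrivial

theorem isWA_iff [IsLocallyNoetherian X] (x : X) : IsWA x ↔
    IsAssociatedPrime (IsLocalRing.maximalIdeal (X.presheaf.stalk x)) (X.presheaf.stalk x) :=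
  (GrothLib.WeakAss.isAssPoint_iff_isWeakAssPoint x).symm.trans (isAssPoint_structure_iff x)

theorem isWA_of_maximal {x : X} (h : ∀ y : X, y ⤳ x → y = x) : IsWA x := by
  refine GrothLib.WeakAss.isWeakAssPoint_of_maximal ?_ fun y _ hy => h y hy
  exact @not_subsingleton _ (nontrivial_stalk_structure x)

end GrothLib.Mero
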