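import Groth.Agent.Lib.Mero.Sections

/-! # Meromorphic sections as fractions, ideals of denominators -/

set_option autoImplicit false
universe u
open CategoryTheory AlgebraicGeometry TopologicalSpace Opposite

namespace GrothLib.Mero

open GrothLib.InvExt (mres fres mres_mres fres_fres mres_smul)

variable {X : Scheme.{u}}

theorem germ_mres (F : X.Modules) {U V : X.Opens} (h : V ≤ U) {y : X} (hy : y ∈ V) (m : Γ(F, U)) :
    F.presheaf.germ V y hy (mres F h m) = F.presheaf.germ U y (h hy) m :=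
  TopCat.Presheaf.germ_res_apply F.presheaf _ y hy m

/-- A meromorphic section on an affine open as a fraction on a finite cover. -/
theorem exists_fracData_mer {F : X.Modules} (hF : TF F) (U : X.affineOpens) (s : Γ(Mero.merMod F, U.1)) :
    ∃ S : FracData F U.1, ∀ (j : S.ι) (y : X) (hy : y ∈ (S.D j).1),
      s.1 ⟨y, S.le j hy⟩ = LocalizedModule.mk (F.presheaf.germ (S.D j).1 y hy (S.a j))
        (Mero.regGerm ⟨y, hy⟩ ⟨S.b j, S.b_mem j⟩) := by
  have hloc : ∀ x : U.1, ∃ (D : X.affineOpens) (_ : x.1 ∈ D.1) (hDU : D.1 ≤ U.1) (a : Γ(F, D.1)) (b : Mero.regSub X D.1),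
      ∀ y : D.1, s.1 ⟨y.1, hDU y.2⟩ = LocalizedModule.mk (F.presheaf.germ D.1 y.1 y.2 a) (Mero.regGerm y b) := by
    intro x
    obtain ⟨V, hxV, i, a, b, hab⟩ := s.2 x
    obtain ⟨D, hxD, hD⟩ := GrothLib.BlowUp.exists_affine_mem_le (show x.1 ∈ V from hxV)
    refine ⟨D, hxD, hD.trans i.le, mres F hD a, ⟨_, Mero.regSub_res (homOfLE hD) b.2⟩, fun y => ?_⟩
    exact (hab ⟨y.1, hD y.2⟩).trans (Mero.mk_congr (germ_mres F hD y.2 a).symm
      (TopCat.Presheaf.germ_res_apply X.presheaf _ _ _ _).symm)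
  choose D hxD hDU a b hab using hloc
  obtain ⟨t, ht⟩ := U.2.isCompact.elim_finite_subcover (fun x : U.1 => ((D x).1 : Set X)) (fun x => (D x).1.2)
    (fun y hy => Set.mem_iUnion.2 ⟨⟨y, hy⟩, hxD ⟨y, hy⟩⟩)
  refine ⟨{ ι := t, D := fun j => D j.1, le := fun j => hDU j.1, cover := fun y hy => ?_,
            a := fun j => a j.1, b := fun j => (b j.1).1, b_mem := fun j => (b j.1).2, compat := ?_ },
    fun j y hy => hab j.1 ⟨y, hy⟩⟩
  · obtain ⟨x, hx, hyx⟩ := Set.mem_iUnion₂.1 (ht hy)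
    exact Opens.mem_iSup.2 ⟨⟨x, hx⟩, hyx⟩
  · intro i j W hi hj
    refine TopCat.Presheaf.section_ext ⟨F.presheaf, F.isSheaf⟩ W _ _ fun y hy => ?_
    show F.presheaf.germ W y hy _ = F.presheaf.germ W y hy _
    rw [GrothLib.WeakAss.germ_smul, GrothLib.WeakAss.germ_smul]
    simp only [germ_mres, fres, TopCat.Presheaf.germ_res_apply]
    exact ((mkM_eq_iff hF _ _ _ _).1 ((hab i.1 ⟨y, hi hy⟩).symm.trans (hab j.1 ⟨y, hj hy⟩))).symm

/-- The germ condition for a denominator, in sections. -/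
theorem smul_eq_iff {F : X.Modules} (hF : TF F) {W : X.Opens} (d : Γ(X, W)) (a m : Γ(F, W)) (b : Mero.regSub X W) :
    (∀ y : W, X.presheaf.germ W y.1 y.2 d • (LocalizedModule.mk (F.presheaf.germ W y.1 y.2 a) (Mero.regGerm y b)) =
      LocalizedModule.mkLinearMap (Mero.regStalk X y.1) _ (F.presheaf.germ W y.1 y.2 m)) ↔ d • a = b.1 • m := by
  constructor
  · intro h
    refine TopCat.Presheaf.section_ext ⟨F.presheaf, F.isSheaf⟩ W _ _ fun y hy => ?_
    show F.presheaf.germ W y hy _ = F.presheaf.germ W y hy _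
    rw [GrothLib.WeakAss.germ_smul, GrothLib.WeakAss.germ_smul]
    have := h ⟨y, hy⟩
    rw [LocalizedModule.smul'_mk, LocalizedModule.mkLinearMap_apply, mkM_eq_iff hF] at this
    simpa using this
  · intro h y
    have := congrArg (F.presheaf.germ W y.1 y.2) h
    rw [GrothLib.WeakAss.germ_smul, GrothLib.WeakAss.germ_smul] at this
    rw [LocalizedModule.smul'_mk, LocalizedModule.mkLinearMap_apply, mkM_eq_iff hF]
    simpa using this

variable {L : X.Modules} (hL : TF L) (s : Γ(Mero.merMod L, ⊤))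

theorem denomIdeal_res {U V : X.Opens} (h : V ≤ U) {d : Γ(X, U)} (hd : d ∈ Mero.denomIdeal L s U) :
    fres X h d ∈ Mero.denomIdeal L s V := by
  obtain ⟨m, hm⟩ := hd
  refine ⟨mres L h m, fun y => ?_⟩
  rw [germ_mres L h y.2 m, fres, TopCat.Presheaf.germ_res_apply]
  exact hm ⟨y.1, h y.2⟩

/-- The section `s` restricted to `U`. -/
noncomputable def sres (U : X.Opens) : Γ(Mero.merMod L, U) :=
  (Mero.merMod L).presheaf.map (homOfLE le_top).op s

include hL in
theorem exists_fracData_denom (U : X.affineOpens) :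
    ∃ S : FracData L U.1, (∀ d, d ∈ Mero.denomIdeal L s U.1 ↔ S.IsDen d) ∧
      ∀ (j : S.ι) (y : X) (hy : y ∈ (S.D j).1), s.1 ⟨y, Opens.mem_top y⟩ =
        LocalizedModule.mk (L.presheaf.germ (S.D j).1 y hy (S.a j)) (Mero.regGerm ⟨y, hy⟩ ⟨S.b j, S.b_mem j⟩) := by
  obtain ⟨S, hS⟩ := exists_fracData_mer hL U (sres s U.1)
  have hS' : ∀ (j : S.ι) (y : X) (hy : y ∈ (S.D j).1), s.1 ⟨y, Opens.mem_top y⟩ =
        LocalizedModule.mk (L.presheaf.germ (S.D j).1 y hy (S.a j)) (Mero.regGerm ⟨y, hy⟩ ⟨S.b j, S.b_mem j⟩) :=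
    hS
  refine ⟨S, fun d => ⟨?_, fun hd => ?_⟩, hS'⟩
  · rintro ⟨m, hm⟩ j
    refine ⟨mres L (S.le j) m, (smul_eq_iff hL (fres X (S.le j) d) (S.a j) _ ⟨S.b j, S.b_mem j⟩).1 fun y => ?_⟩
    rw [← hS' j y.1 y.2, germ_mres L (S.le j) y.2 m, fres, TopCat.Presheaf.germ_res_apply]
    exact hm ⟨y.1, S.le j y.2⟩
  · obtain ⟨m, hm⟩ := S.exists_glue hL hd
    refine ⟨m, fun y => ?_⟩
    obtain ⟨j, hj⟩ := Opens.mem_iSup.1 (S.cover y.2)
    have h1 := (smul_eq_iff hL _ _ _ ⟨S.b j, S.b_mem j⟩).2 (hm j) ⟨y.1, hj⟩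
    rw [← hS' j y.1 hj, germ_mres L (S.le j) hj m, fres, TopCat.Presheaf.germ_res_apply] at h1
    exact h1

include hL in
theorem map_denomIdeal [L.IsQuasicoherent] (U : X.affineOpens) (g : Γ(X, U.1)) :
    (Mero.denomIdeal L s U.1).map (X.presheaf.map (homOfLE <| X.basicOpen_le g).op).hom =
      Mero.denomIdeal L s (X.basicOpen g) := by
  refine le_antisymm (Ideal.map_le_iff_le_comap.2 fun d hd => denomIdeal_res s (X.basicOpen_le g) hd) ?_
  intro d' hd'
  obtain ⟨S, hS, hS'⟩ := exists_fracData_denom hL s U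
  obtain ⟨m, hm⟩ := hd'
  obtain ⟨N, d, hd, hden⟩ := S.exists_den U.2 g d' m fun j W hj hg => by
    refine (smul_eq_iff hL (fres X hg d') (mres L hj (S.a j)) (mres L hg m)
      ⟨_, Mero.regSub_res (homOfLE hj) (S.b_mem j)⟩).1 fun y => ?_
    rw [fres, TopCat.Presheaf.germ_res_apply, germ_mres L hg y.2 m]
    refine Eq.trans (congrArg _ ?_) (hm ⟨y.1, hg y.2⟩)
    rw [hS' j y.1 (hj y.2)]
    exact Mero.mk_congr (germ_mres L hj y.2 _) (TopCat.Presheaf.germ_res_apply X.presheaf _ _ _ _)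
  have hu : IsUnit (fres X (X.basicOpen_le g) g ^ N) :=
    (RingedSpace.isUnit_res_basicOpen X.toRingedSpace g).pow N
  have : d' = hu.unit⁻¹.1 * fres X (X.basicOpen_le g) d := by
    rw [hd, ← mul_assoc, IsUnit.val_inv_mul, one_mul]
  rw [this]
  exact Ideal.mul_mem_left _ _ (Ideal.mem_map_of_mem _ ((hS d).2 hden))

/-- The ideal sheaf of denominators. -/
noncomputable def denomData (hL : TF L) [L.IsQuasicoherent] (s : Γ(Mero.merMod L, ⊤)) : X.IdealSheafData where
  ideal U := Mero.denomIdeal L s U.1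
  map_ideal_basicOpen U g := map_denomIdeal hL s U g

theorem interior_support_denomData [L.IsQuasicoherent] :
    interior ((denomData hL s).support : Set X) = ∅ := by
  rw [Set.eq_empty_iff_forall_notMem]
  intro x hx
  obtain ⟨V, hxV, hV⟩ := GrothLib.BlowUp.exists_affine_mem_le (W := ⟨_, isOpen_interior⟩) hx
  have hne : GrothLib.WeakAss.toModSec (1 : Γ(X, V.1)) ≠ 0 := fun h => by
    have h1 : (1 : Γ(X, V.1)) = 0 := h
    have := congrArg (X.presheaf.germ V.1 x hxV) h1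
    simp at this
  obtain ⟨y, hyV, hy, -⟩ :=
    GrothLib.WeakAss.exists_isWeakAssPoint (F := Coh.structureModule X) V.2 hne
  obtain ⟨S, hS, -⟩ := exists_fracData_denom hL s V
  obtain ⟨d, hyd, hden⟩ := S.exists_den_at V.2 hyV hy
  have hsupp : y ∈ (denomData hL s).support := interior_subset (hV hyV)
  rw [Scheme.IdealSheafData.mem_support_iff_of_mem hyV, Scheme.mem_zeroLocus_iff] at hsupp
  exact hsupp d ((hS d).2 hden) hyd

end GrothLib.Mero
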