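import Groth.Agent.Lib.Mero.DepthOne
import Groth.Agent.Lib.InvExt.Gen
import Groth.Agent.Lib.Mero.MerMod

/-! # Divisors of regular meromorphic sections of invertible modules -/

set_option autoImplicit false
set_option backward.isDefEq.respectTransparency false
universe u
open CategoryTheory AlgebraicGeometry TopologicalSpace Opposite GrothLib.InvExt

namespace GrothLib.Mero

variable {X : Scheme.{u}}

section Gen

variable {L : X.Modules} {V : X.Opens} {e : Γ(L, V)} (he : IsGen L V e)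
include he

theorem gen_smul_eq_zero {y : X} (hy : y ∈ V) {c : X.presheaf.stalk y}
    (h : c • L.presheaf.germ V y hy e = 0) : c = 0 := by
  have hb := GrothLib.Ref1.stalk_of_isFrame ((isGen_iff_isFrame (fun _ : Fin 1 => e)).mpr he) y hy
  have h0 := @hb.1 (fun _ => c) 0 (((by simp [GrothLib.Ref1.stalkComb, Fintype.linearCombination_apply]) :
    GrothLib.Ref1.stalkComb (fun _ : Fin 1 => e) y hy (fun _ => c) = c • L.presheaf.germ V y hy e).trans (h.trans (map_zero _).symm))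
  exact congrFun h0 0

theorem gen_stalk_surj {y : X} (hy : y ∈ V) (m : L.presheaf.stalk y) :
    ∃ c : X.presheaf.stalk y, c • L.presheaf.germ V y hy e = m := by
  obtain ⟨c, rfl⟩ := (GrothLib.Ref1.stalk_of_isFrame ((isGen_iff_isFrame (fun _ : Fin 1 => e)).mpr he) y hy).2 m
  exact ⟨c 0, by simp [GrothLib.Ref1.stalkComb, Fintype.linearCombination_apply]⟩

theorem mstalk_smul_eq_zero {y : X} (hy : y ∈ V) {q : Mero.KStalk X y}
    (h : q • (LocalizedModule.mk (L.presheaf.germ V y hy e) 1 : Mero.MStalk L y) = 0) : q = 0 := by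
  induction q using LocalizedModule.induction_on with
  | h c s =>
    have h' : (LocalizedModule.mk (c • L.presheaf.germ V y hy e) (s * 1) : Mero.MStalk L y) = 0 :=
      (LocalizedModule.mk_smul_mk _ _ _ _).symm.trans h
    rw [← LocalizedModule.zero_mk (s * 1), LocalizedModule.mk_eq] at h'
    obtain ⟨u, hu⟩ := h'
    simp only [Submonoid.smul_def, smul_zero, smul_smul, mul_one] at hu
    have h0 := gen_smul_eq_zero he hy hu
    rw [mk_eq_zero_iff]
    exact mem_nonZeroDivisors_iff_left.1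
      (mul_mem (Mero.regStalk_le_nonZeroDivisors y u.2) (Mero.regStalk_le_nonZeroDivisors y s.2)) c (by rw [mul_assoc]; exact h0)

end Gen

theorem smul_right_inj_of_regular {L : X.Modules} {s : Γ(Mero.merMod L, ⊤)} (hs : Mero.IsRegularMero L s)
    {y : X} {q q' : Mero.KStalk X y} (h : q • s.1 ⟨y, Opens.mem_top y⟩ = q' • s.1 ⟨y, Opens.mem_top y⟩) : q = q' :=
  sub_eq_zero.mp (hs y _ (by rw [sub_smul, h, sub_self]))

/-- Near every point a regular meromorphic section is a meromorphic unit times a generator. -/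
theorem exists_unit_gen {L : X.Modules} (hL : PicF.IsInvertible L) {s : Γ(Mero.merMod L, ⊤)}
    (hs : Mero.IsRegularMero L s) (x : X) :
    ∃ (W : X.Opens) (_ : x ∈ W) (e : Γ(L, W)) (_ : IsGen L W e) (f : (Γ(Mero.kmod X, W))ˣ),
      ∀ y : W, s.1 ⟨y.1, Opens.mem_top y.1⟩ =
        (f : Γ(Mero.kmod X, W)).1 y • (LocalizedModule.mk (L.presheaf.germ W y.1 y.2 e) 1 : Mero.MStalk L y.1) := by
  obtain ⟨V, e, hxV, he⟩ := exists_gen_nhd hL x
  obtain ⟨T, hxT, i, m, b, hmb⟩ := s.2 ⟨x, Opens.mem_top x⟩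
  replace hxT : x ∈ T := hxT
  let W := T ⊓ V
  obtain ⟨c, hc⟩ := he.exists_smul_eq (inf_le_right : W ≤ V) (mres L (inf_le_left : W ≤ T) m)
  let bW : Mero.regSub X W := ⟨_, Mero.regSub_res (homOfLE (inf_le_left : W ≤ T)) b.2⟩
  have hval : ∀ y : W, s.1 ⟨y.1, Opens.mem_top y.1⟩ =
      (LocalizedModule.mk (X.presheaf.germ W y.1 y.2 c) (Mero.regGerm y bW) : Mero.KStalk X y.1) •
        (LocalizedModule.mk (L.presheaf.germ W y.1 y.2 (mres L (inf_le_right : W ≤ V) e)) 1 : Mero.MStalk L y.1) := by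
    intro y
    refine (hmb ⟨y.1, y.2.1⟩).trans ?_
    refine Eq.trans ?_ (LocalizedModule.mk_smul_mk _ _ _ _).symm
    rw [mul_one]
    refine Mero.mk_congr ?_ (TopCat.Presheaf.germ_res_apply X.presheaf _ _ _ _).symm
    rw [← Mero.germ_smul, ← hc]
    exact (TopCat.Presheaf.germ_res_apply L.presheaf _ _ _ _).symm
  have hcreg : c ∈ Mero.regSub X W := fun y => by
    rw [mem_nonZeroDivisors_iff_left]
    intro r hr
    refine (mk_eq_zero_iff r 1).mp (hs y.1 _ ?_)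
    rw [hval y, smul_smul]
    refine (congrArg (fun q : Mero.KStalk X y.1 => q • _) ?_).trans (zero_smul _ _)
    refine LocalizedModule.mk_mul_mk.trans ?_
    rw [mk_eq_zero_iff, mul_comm]
    exact hr
  refine ⟨W, ⟨hxT, hxV⟩, _, he.restrict inf_le_right,
    (isUnit_toK W hcreg).unit * (isUnit_toK W bW.2).unit⁻¹, fun y => ?_⟩
  rw [hval y]
  refine congrArg (fun q : Mero.KStalk X y.1 => q • _) ?_
  have hb1 := (isUnit_toK W bW.2).mul_val_inv
  have h2 := congrArg (fun t : Γ(Mero.kmod X, W) => t.1 y) hb1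
  rw [Mero.kmod_mul_apply, Mero.kmod_one_apply, Mero.toK_apply] at h2
  rw [Units.val_mul, Mero.kmod_mul_apply, IsUnit.unit_spec, Mero.toK_apply]
  have e3 : (LocalizedModule.mk (X.presheaf.germ W y.1 y.2 c) 1 : Mero.KStalk X y.1) =
      LocalizedModule.mk (X.presheaf.germ W y.1 y.2 c) (Mero.regGerm y bW) *
        LocalizedModule.mk (X.presheaf.germ W y.1 y.2 bW.1) 1 := by
    refine Eq.trans ?_ LocalizedModule.mk_mul_mk.symm
    rw [mkK_eq_iff]
    simp only [Mero.regGerm, Submonoid.coe_mul, OneMemClass.coe_one, mul_one, one_mul]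
    ring
  rw [e3, mul_assoc, h2, mul_one]

/-- The divisor class of a coefficient with respect to a generator does not depend on the generator. -/
theorem germOf_eq_of_gen {L : X.Modules} {s : Γ(Mero.merMod L, ⊤)} {W₁ W₂ : X.Opens}
    {e₁ : Γ(L, W₁)} {e₂ : Γ(L, W₂)} (he₁ : IsGen L W₁ e₁) (he₂ : IsGen L W₂ e₂)
    {f₁ : (Γ(Mero.kmod X, W₁))ˣ} {f₂ : (Γ(Mero.kmod X, W₂))ˣ}
    (hf₁ : ∀ y : W₁, s.1 ⟨y.1, Opens.mem_top y.1⟩ =
      (f₁ : Γ(Mero.kmod X, W₁)).1 y • (LocalizedModule.mk (L.presheaf.germ W₁ y.1 y.2 e₁) 1 : Mero.MStalk L y.1))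
    (hf₂ : ∀ y : W₂, s.1 ⟨y.1, Opens.mem_top y.1⟩ =
      (f₂ : Γ(Mero.kmod X, W₂)).1 y • (LocalizedModule.mk (L.presheaf.germ W₂ y.1 y.2 e₂) 1 : Mero.MStalk L y.1))
    {y : X} (hi : y ∈ W₁) (hj : y ∈ W₂) : Mero.germOf f₁ ⟨y, hi⟩ = Mero.germOf f₂ ⟨y, hj⟩ := by
  obtain ⟨u, hu⟩ := gen_stalk_surj he₂ hj (L.presheaf.germ W₁ y hi e₁)
  obtain ⟨u', hu'⟩ := gen_stalk_surj he₁ hi (L.presheaf.germ W₂ y hj e₂)
  have huu : u' * u = 1 := by
    refine sub_eq_zero.mp (gen_smul_eq_zero he₂ hj ?_)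
    rw [sub_smul, one_smul, mul_smul, hu, hu', sub_self]
  have h1 : (f₁ : Γ(Mero.kmod X, W₁)).1 ⟨y, hi⟩ * algebraMap _ (Mero.KStalk X y) u = (f₂ : Γ(Mero.kmod X, W₂)).1 ⟨y, hj⟩ := by
    refine sub_eq_zero.mp (mstalk_smul_eq_zero he₂ hj ?_)
    rw [sub_smul, mul_smul, ← hf₂ ⟨y, hj⟩, algebraMap_smul, LocalizedModule.smul'_mk, hu, ← hf₁ ⟨y, hi⟩, sub_self]
  refine QuotientGroup.eq.mpr ((mem_stalkUnits_iff _).mpr ⟨?_, ?_⟩)
  · refine ⟨u, ?_⟩
    rw [Units.val_mul]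
    refine Eq.trans ?_ (congrArg (_ * ·) h1)
    rw [← mul_assoc]
    exact ((congrArg (· * _) (Units.inv_mul (Units.map (Mero.evalK X W₁ ⟨y, hi⟩).toMonoidHom f₁))).trans (one_mul _)).symm
  · refine ⟨u', ?_⟩
    rw [mul_inv_rev, inv_inv, Units.val_mul]
    have h3 : (f₂ : Γ(Mero.kmod X, W₂)).1 ⟨y, hj⟩ * algebraMap _ (Mero.KStalk X y) u' = (f₁ : Γ(Mero.kmod X, W₁)).1 ⟨y, hi⟩ := by
      rw [← h1, mul_assoc, ← map_mul, mul_comm u, huu, map_one, mul_one]
    refine Eq.trans ?_ (congrArg (_ * ·) h3)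
    rw [← mul_assoc]
    exact ((congrArg (· * _) (Units.inv_mul (Units.map (Mero.evalK X W₂ ⟨y, hj⟩).toMonoidHom f₂))).trans (one_mul _)).symm

/-- A regular meromorphic section of an invertible module gives a divisor `D` with `L ≅ O_X(D)`. -/
theorem exists_iso_divMod_data {L : X.Modules} (hL : PicF.IsInvertible L) {s : Γ(Mero.merMod L, ⊤)}
    (hs : Mero.IsRegularMero L s) : ∃ (D : Mero.Divisor X) (φ : L ≅ Mero.divMod D),
      (∀ (W₁ : X.Opens) (e₁ : Γ(L, W₁)), IsGen L W₁ e₁ → ∀ f₁ : (Γ(Mero.kmod X, W₁))ˣ,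
        (∀ y : W₁, s.1 ⟨y.1, Opens.mem_top y.1⟩ = (f₁ : Γ(Mero.kmod X, W₁)).1 y •
          (LocalizedModule.mk (L.presheaf.germ W₁ y.1 y.2 e₁) 1 : Mero.MStalk L y.1)) →
        ∀ y : W₁, D.1 y.1 = Mero.germOf f₁ y) ∧
      ∀ (U : X.Opens) (m : Γ(L, U)) (y : U), (φ.hom.app U m).1 y • s.1 ⟨y.1, Opens.mem_top y.1⟩ =
        (LocalizedModule.mk (L.presheaf.germ U y.1 y.2 m) 1 : Mero.MStalk L y.1) := by
  choose W hxW e he f hf using exists_unit_gen hL hs
  have hgerm : ∀ (i j : X) (y : X) (hi : y ∈ W i) (hj : y ∈ W j),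
      Mero.germOf (f i) ⟨y, hi⟩ = Mero.germOf (f j) ⟨y, hj⟩ := fun i j y hi hj =>
    germOf_eq_of_gen (he i) (he j) (hf i) (hf j) hi hj
  let D : Mero.Divisor X := ⟨fun y => Mero.germOf (f y) ⟨y, hxW y⟩,
    fun x => ⟨W x, hxW x, f x, fun y => hgerm y.1 x y.1 (hxW y.1) y.2⟩⟩
  have hq : ∀ (U : X.Opens) (m : Γ(L, U)) (y : U), ∃ q : Mero.KStalk X y.1,
      q • s.1 ⟨y.1, Opens.mem_top y.1⟩ = (LocalizedModule.mk (L.presheaf.germ U y.1 y.2 m) 1 : Mero.MStalk L y.1) := by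
    intro U m y
    obtain ⟨c, hc⟩ := gen_stalk_surj (he y.1) (hxW y.1) (L.presheaf.germ U y.1 y.2 m)
    refine ⟨algebraMap _ _ c * (↑(f y.1)⁻¹ : Γ(Mero.kmod X, W y.1)).1 ⟨y.1, hxW y.1⟩, ?_⟩
    rw [hf y.1 ⟨y.1, hxW y.1⟩, smul_smul, mul_assoc, ← Mero.kmod_mul_apply, Units.inv_mul, Mero.kmod_one_apply,
      mul_one, algebraMap_smul, LocalizedModule.smul'_mk, hc]
  choose q hq using hq
  have key : ∀ (U : X.Opens) (m : Γ(L, U)) (y : U) (i : X) (hi : y.1 ∈ W i) (c : X.presheaf.stalk y.1),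
      c • L.presheaf.germ (W i) y.1 hi (e i) = L.presheaf.germ U y.1 y.2 m →
      q U m y = algebraMap _ _ c * (↑(f i)⁻¹ : Γ(Mero.kmod X, W i)).1 ⟨y.1, hi⟩ := by
    intro U m y i hi c hc
    refine smul_right_inj_of_regular hs ?_
    rw [hq, hf i ⟨y.1, hi⟩, smul_smul, mul_assoc, ← Mero.kmod_mul_apply, Units.inv_mul, Mero.kmod_one_apply,
      mul_one, algebraMap_smul, LocalizedModule.smul'_mk, hc]
  have hmem : ∀ (U : X.Opens) (m : Γ(L, U)), (Mero.divLoc X D).pred (q U m) := by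
    intro U m
    refine ⟨fun x => ?_, fun y => ?_⟩
    · obtain ⟨r, hr⟩ := (he x.1).exists_smul_eq (inf_le_right : U ⊓ W x.1 ≤ W x.1) (mres L (inf_le_left : U ⊓ W x.1 ≤ U) m)
      obtain ⟨T, hxT, i, a, b, hab⟩ := (Mero.toK X (U ⊓ W x.1) r *
        (Mero.kmod X).presheaf.map (homOfLE (inf_le_right : U ⊓ W x.1 ≤ W x.1)).op (↑(f x.1)⁻¹ : Γ(Mero.kmod X, W x.1))).2
          ⟨x.1, x.2, hxW x.1⟩
      refine ⟨T, hxT, i ≫ homOfLE inf_le_left, a, b, fun y => ?_⟩
      refine Eq.trans ?_ (hab y)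
      have hc : X.presheaf.germ _ y.1 (i.le y.2) r • L.presheaf.germ (W x.1) y.1 (i.le y.2).2 (e x.1) =
          L.presheaf.germ U y.1 (i.le y.2).1 m := by
        have h4 := congrArg (L.presheaf.germ _ y.1 (i.le y.2)) hr
        rw [Mero.germ_smul, germ_mres, germ_mres] at h4
        exact h4.symm
      refine (key U m ⟨y.1, (i.le y.2).1⟩ x.1 (i.le y.2).2 _ hc).trans ?_
      change _ = (Mero.toK X _ r).1 ⟨y.1, i.le y.2⟩ * _
      rw [toK_apply_eq]
      rfl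
    · obtain ⟨c, hc⟩ := gen_stalk_surj (he y.1) (hxW y.1) (L.presheaf.germ U y.1 y.2 m)
      rw [divCond_iff (D := D) (g := Units.map (Mero.evalK X (W y.1) ⟨y.1, hxW y.1⟩).toMonoidHom (f y.1)) rfl,
        key U m y y.1 (hxW y.1) c hc, mul_assoc]
      refine ⟨c, (mul_one _).symm.trans (congrArg (_ * ·) ?_)⟩
      exact (congrArg (fun t : Γ(Mero.kmod X, W y.1) => t.1 ⟨y.1, hxW y.1⟩) (f y.1).inv_mul).symm
  let φ : L ⟶ Mero.divMod D :=
    ⟨PresheafOfModules.homMk (M₁ := L.val) (M₂ := (Mero.divMod D).val)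
      { app := fun U => AddCommGrpCat.ofHom
          { toFun := fun (m : Γ(L, U.unop)) => (⟨q U.unop m, hmem U.unop m⟩ : Γ(Mero.divMod D, U.unop))
            map_zero' := Subtype.ext <| funext fun y => smul_right_inj_of_regular hs (by
              rw [hq, map_zero, LocalizedModule.zero_mk]
              exact (zero_smul _ _).symm)
            map_add' := fun m n => Subtype.ext <| funext fun y => smul_right_inj_of_regular hs (by
              change q _ (m + n) y • _ = (q _ m y + q _ n y) • _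
              rw [add_smul, hq, hq, hq, map_add, LocalizedModule.mk_add_mk]
              exact Mero.mk_congr (by simp only [one_smul]) (by rw [one_mul])) }
        naturality := fun {U V} i => by
          ext m
          refine Subtype.ext (funext fun y => smul_right_inj_of_regular hs ?_)
          refine (hq _ _ _).trans ((Mero.mk_congr (TopCat.Presheaf.germ_res_apply' L.presheaf i y.1 y.2 m) rfl).trans ?_)
          exact (hq U.unop m ⟨y.1, i.unop.le y.2⟩).symm }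
      (fun U r m => Subtype.ext <| funext fun y => smul_right_inj_of_regular hs (by
        change q _ (r • m) y • _ = (X.presheaf.germ _ y.1 y.2 r • q _ m y) • _
        rw [hq, smul_assoc, hq, LocalizedModule.smul'_mk, Mero.germ_smul]))⟩
  have happ : ∀ (U : X.Opens) (m : Γ(L, U)), (φ.app U m).1 = q U m := fun U m => rfl
  have hinj : ∀ (U : X.Opens) (m n : Γ(L, U)), φ.app U m = φ.app U n → m = n := by
    intro U m n h
    refine TopCat.Presheaf.section_ext ⟨L.presheaf, L.isSheaf⟩ U m n fun y hy => ?_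
    change L.presheaf.germ U y hy m = L.presheaf.germ U y hy n
    have h1 := congrArg (fun t : Γ(Mero.divMod D, U) => t.1 ⟨y, hy⟩ • s.1 ⟨y, Opens.mem_top y⟩) h
    simp only [happ, hq] at h1
    rw [mkM_eq_iff (tf_of_isInvertible hL)] at h1
    simpa using h1
  have hsurj : ∀ (U : X.Opens) (t : Γ(Mero.divMod D, U)), ∃ m : Γ(L, U), φ.app U m = t := by
    intro U t
    have hlocal : ∀ i : X, ∃ m : Γ(L, U ⊓ W i), ∀ y : ↥(U ⊓ W i), (φ.app (U ⊓ W i) m).1 y = t.1 ⟨y.1, y.2.1⟩ := by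
      intro i
      let t0 : Γ(Mero.kmod X, U) := ⟨t.1, t.2.1⟩
      obtain ⟨c, hc⟩ := exists_toK_eq
        ((Mero.kmod X).presheaf.map (homOfLE (inf_le_left : U ⊓ W i ≤ U)).op t0 *
          (Mero.kmod X).presheaf.map (homOfLE (inf_le_right : U ⊓ W i ≤ W i)).op (f i : Γ(Mero.kmod X, W i))) fun y =>
        (divCond_iff (D := D) (g := Units.map (Mero.evalK X (W i) ⟨y.1, y.2.2⟩).toMonoidHom (f i))
          (hgerm y.1 i y.1 (hxW y.1) y.2.2) _).mp (t.2.2 ⟨y.1, y.2.1⟩)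
      refine ⟨c • mres L inf_le_right (e i), fun y => ?_⟩
      rw [happ, key _ _ y i y.2.2 (X.presheaf.germ _ y.1 y.2 c) (by rw [Mero.germ_smul, germ_mres]), ← toK_apply_eq, hc]
      change t.1 ⟨y.1, y.2.1⟩ * (f i : Γ(Mero.kmod X, W i)).1 ⟨y.1, y.2.2⟩ * _ = _
      rw [mul_assoc, ← Mero.kmod_mul_apply, Units.mul_inv, Mero.kmod_one_apply, mul_one]
    choose m hm using hlocal
    obtain ⟨g, hg, -⟩ := TopCat.Sheaf.existsUnique_gluing' ⟨L.presheaf, L.isSheaf⟩ (fun i => U ⊓ W i) U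
      (fun i => homOfLE inf_le_left) (fun y hy => Opens.mem_iSup.mpr ⟨y, hy, hxW y⟩) m fun i j => by
        refine hinj _ _ _ (Subtype.ext (funext fun y => ?_))
        refine Eq.trans (congrArg (fun r : Γ(Mero.divMod D, (U ⊓ W i) ⊓ (U ⊓ W j)) => r.1 y)
          (φ.mapPresheaf.naturality_apply (homOfLE inf_le_left).op (m i))) ?_
        refine Eq.trans ?_ (congrArg (fun r : Γ(Mero.divMod D, (U ⊓ W i) ⊓ (U ⊓ W j)) => r.1 y)
          (φ.mapPresheaf.naturality_apply (homOfLE inf_le_right).op (m j))).symm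
        exact (hm i ⟨y.1, y.2.1⟩).trans (hm j ⟨y.1, y.2.2⟩).symm
    refine ⟨g, Subtype.ext (funext fun y => ?_)⟩
    have h5 := congrArg (fun r : Γ(Mero.divMod D, U ⊓ W y.1) => r.1 ⟨y.1, y.2, hxW y.1⟩)
      ((φ.mapPresheaf.naturality_apply (homOfLE (inf_le_left : U ⊓ W y.1 ≤ U)).op g).symm.trans
        (congrArg (φ.app (U ⊓ W y.1)) (hg y.1)))
    exact h5.trans (hm y.1 ⟨y.1, y.2, hxW y.1⟩)
  haveI : IsIso φ := by
    refine Scheme.Modules.Hom.isIso_iff_isIso_app.mpr ?_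
    intro U
    rw [ConcreteCategory.isIso_iff_bijective]
    exact ⟨fun m n h => hinj U m n h, hsurj U⟩
  exact ⟨D, asIso φ, fun W₁ e₁ he₁ f₁ hf₁ y => germOf_eq_of_gen (he y.1) he₁ (hf y.1) hf₁ (hxW y.1) y.2, hq⟩

theorem exists_iso_divMod_of_regular {L : X.Modules} (hL : PicF.IsInvertible L) {s : Γ(Mero.merMod L, ⊤)}
    (hs : Mero.IsRegularMero L s) : ∃ D : Mero.Divisor X, Nonempty (L ≅ Mero.divMod D) :=
  let ⟨D, φ, _⟩ := exists_iso_divMod_data hL hs
  ⟨D, ⟨φ⟩⟩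

/-- An invertible module of the form `O_X(D)` has a regular meromorphic section. -/
theorem hasRegularMero_of_iso {L : X.Modules} {D : Mero.Divisor X} (φ : L ≅ Mero.divMod D) :
    Mero.HasRegularMero L := by
  have hloc : ∀ x : X, ∃ (W : X.Opens) (_ : x ∈ W) (a : Γ(X, W)) (b : Mero.regSub X W) (e : Γ(L, W)) (_ : IsGen L W e),
      ∀ y : W, IsUnit (LocalizedModule.mk (X.presheaf.germ W y.1 y.2 a) (Mero.regGerm y b) : Mero.KStalk X y.1) ∧
        (φ.hom.app W e).1 y * LocalizedModule.mk (X.presheaf.germ W y.1 y.2 a) (Mero.regGerm y b) = 1 := by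
    intro x
    obtain ⟨U, hxU, f, hf⟩ := D.2 x
    obtain ⟨W, hxW, i, a, b, hab⟩ := (f : Γ(Mero.kmod X, U)).2 ⟨x, hxU⟩
    let ed : Γ(Mero.divMod D, U) := ⟨(↑f⁻¹ : Γ(Mero.kmod X, U)).1, (↑f⁻¹ : Γ(Mero.kmod X, U)).2, fun y =>
      (divCond_iff (hf y) _).mpr
        ⟨1, (map_one _).trans (congrArg (fun t : Γ(Mero.kmod X, U) => t.1 y) f.inv_mul).symm⟩⟩
    have hgen : IsGen (Mero.divMod D) U ed := fun T h => ⟨fun c d hcd => by
        refine TopCat.Presheaf.section_ext X.sheaf T _ _ fun y hy => ?_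
        change X.presheaf.germ _ _ hy c = X.presheaf.germ _ _ hy d
        have h1 := congrArg (fun t : Γ(Mero.divMod D, T) => t.1 ⟨y, hy⟩) hcd
        change X.presheaf.germ T y hy c • _ = X.presheaf.germ T y hy d • _ at h1
        rw [Algebra.smul_def, Algebra.smul_def] at h1
        exact Mero.algebraMap_KStalk_injective y
          (IsUnit.mul_right_cancel (Units.map (Mero.evalK X U ⟨y, h hy⟩).toMonoidHom f⁻¹).isUnit h1), fun m => by
        let m0 : Γ(Mero.kmod X, T) := ⟨m.1, m.2.1⟩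
        obtain ⟨c, hc⟩ := exists_toK_eq (m0 * (Mero.kmod X).presheaf.map (homOfLE h).op (f : Γ(Mero.kmod X, U)))
          fun y => (divCond_iff (hf ⟨y.1, h y.2⟩) _).mp (m.2.2 y)
        refine ⟨c, Subtype.ext (funext fun y => ?_)⟩
        change X.presheaf.germ T y.1 y.2 c • _ = _
        rw [Algebra.smul_def, ← toK_apply_eq c y, hc]
        change m.1 y * (f : Γ(Mero.kmod X, U)).1 ⟨y.1, h y.2⟩ * (↑f⁻¹ : Γ(Mero.kmod X, U)).1 ⟨y.1, h y.2⟩ = _
        rw [mul_assoc, ← Mero.kmod_mul_apply, Units.mul_inv, Mero.kmod_one_apply, mul_one]⟩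
    have hgW := hgen.restrict i.le
    let e : Γ(L, W) := φ.inv.app W (mres _ i.le ed)
    have hcanc : ∀ (T : X.Opens) (t : Γ(Mero.divMod D, T)), φ.hom.app T (φ.inv.app T t) = t := fun T t =>
      congrArg (fun g : Mero.divMod D ⟶ Mero.divMod D => g.app T t) φ.inv_hom_id
    have hcanc' : ∀ (T : X.Opens) (t : Γ(L, T)), φ.inv.app T (φ.hom.app T t) = t := fun T t =>
      congrArg (fun g : L ⟶ L => g.app T t) φ.hom_inv_id
    have he : IsGen L W e := fun T h => by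
      have e1 : (fun c : Γ(X, T) => c • mres L h e) = φ.inv.app T ∘ fun c : Γ(X, T) => c • mres _ h (mres _ i.le ed) := by
        funext c
        change _ = φ.inv.app T (c • _)
        rw [Scheme.Modules.Hom.app_smul]
        exact congrArg (c • ·) (φ.inv.mapPresheaf.naturality_apply (homOfLE h).op _).symm
      rw [e1]
      exact ((Function.bijective_iff_has_inverse.mpr ⟨φ.hom.app T, hcanc T, hcanc' T⟩)).comp (hgW T h)
    refine ⟨W, hxW, a, b, e, he, fun y => ?_⟩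
    have hab' : (f : Γ(Mero.kmod X, U)).1 (i y) = LocalizedModule.mk (X.presheaf.germ W y.1 y.2 a) (Mero.regGerm y b) := hab y
    rw [← hab', show φ.hom.app W e = mres _ i.le ed from hcanc W _]
    exact ⟨(Units.map (Mero.evalK X U ⟨y.1, i.le y.2⟩).toMonoidHom f).isUnit,
      congrArg (fun t : Γ(Mero.kmod X, U) => t.1 (i y)) f.inv_mul⟩
  choose W hxW a b e he hab using hloc
  have hagree : ∀ (i j y : X) (hi : y ∈ W i) (hj : y ∈ W j),
      (LocalizedModule.mk (L.presheaf.germ (W i) y hi (a i • e i)) (Mero.regGerm ⟨y, hi⟩ (b i)) : Mero.MStalk L y) =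
        LocalizedModule.mk (L.presheaf.germ (W j) y hj (a j • e j)) (Mero.regGerm ⟨y, hj⟩ (b j)) := by
    intro i j y hi hj
    obtain ⟨u, hu⟩ := (he j).exists_smul_eq (inf_le_right : W i ⊓ W j ≤ W j) (mres L (inf_le_left : W i ⊓ W j ≤ W i) (e i))
    have h2 := congrArg (fun t : Γ(Mero.divMod D, W i ⊓ W j) => t.1 ⟨y, hi, hj⟩) (congrArg (φ.hom.app (W i ⊓ W j)) hu)
    have hn1 := congrArg (fun t : Γ(Mero.divMod D, W i ⊓ W j) => t.1 ⟨y, hi, hj⟩)
      (φ.hom.mapPresheaf.naturality_apply (homOfLE (inf_le_left : W i ⊓ W j ≤ W i)).op (e i))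
    have hn2 := congrArg (fun t : Γ(Mero.divMod D, W i ⊓ W j) => t.1 ⟨y, hi, hj⟩)
      (φ.hom.mapPresheaf.naturality_apply (homOfLE (inf_le_right : W i ⊓ W j ≤ W j)).op (e j))
    dsimp only at hn1 hn2
    dsimp only at h2
    rw [Scheme.Modules.Hom.app_smul] at h2
    have h3 : (φ.hom.app (W i) (e i)).1 ⟨y, hi⟩ =
        algebraMap _ _ (X.presheaf.germ _ y (⟨hi, hj⟩ : y ∈ W i ⊓ W j) u) * (φ.hom.app (W j) (e j)).1 ⟨y, hj⟩ := by
      refine hn1.symm.trans (h2.trans ?_)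
      change _ • _ = _
      rw [Algebra.smul_def]
      exact congrArg (_ * ·) hn2
    let A := fun k (hk : y ∈ W k) =>
      (LocalizedModule.mk (X.presheaf.germ (W k) y hk (a k)) (Mero.regGerm ⟨y, hk⟩ (b k)) : Mero.KStalk X y)
    have h4 : algebraMap _ _ (X.presheaf.germ _ y (⟨hi, hj⟩ : y ∈ W i ⊓ W j) u) * A i hi = A j hj := by
      calc algebraMap _ _ (X.presheaf.germ _ y (⟨hi, hj⟩ : y ∈ W i ⊓ W j) u) * A i hi
          = (algebraMap _ _ (X.presheaf.germ _ y (⟨hi, hj⟩ : y ∈ W i ⊓ W j) u) * (φ.hom.app (W j) (e j)).1 ⟨y, hj⟩) * A i hi * A j hj := by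
            rw [mul_right_comm _ _ (A i hi), mul_assoc, (hab j ⟨y, hj⟩).2, mul_one]
        _ = A j hj := by rw [← h3, (hab i ⟨y, hi⟩).2, one_mul]
    have hu' := congrArg (L.presheaf.germ _ y (⟨hi, hj⟩ : y ∈ W i ⊓ W j)) hu
    rw [Mero.germ_smul, germ_mres, germ_mres] at hu'
    have e5 : ∀ k (hk : y ∈ W k), (LocalizedModule.mk (L.presheaf.germ (W k) y hk (a k • e k)) (Mero.regGerm ⟨y, hk⟩ (b k)) : Mero.MStalk L y) =
        A k hk • (LocalizedModule.mk (L.presheaf.germ (W k) y hk (e k)) 1 : Mero.MStalk L y) := fun k hk => by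
      refine Eq.trans ?_ (LocalizedModule.mk_smul_mk _ _ _ _).symm
      rw [mul_one, ← Mero.germ_smul]
    rw [e5 i hi, e5 j hj, hu', ← LocalizedModule.smul'_mk, ← algebraMap_smul (Mero.KStalk X y) (X.presheaf.germ _ y (⟨hi, hj⟩ : y ∈ W i ⊓ W j) u), smul_smul,
      mul_comm (A i hi), h4]
  refine ⟨⟨fun y => LocalizedModule.mk (L.presheaf.germ (W y.1) y.1 (hxW y.1) (a y.1 • e y.1))
      (Mero.regGerm ⟨y.1, hxW y.1⟩ (b y.1)), fun y => ?_⟩, fun x q hq => ?_⟩
  · exact ⟨W y.1, hxW y.1, homOfLE le_top, a y.1 • e y.1, b y.1, fun z => hagree z.1 y.1 z.1 (hxW z.1) z.2⟩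
  · refine (hab x ⟨x, hxW x⟩).1.mul_left_eq_zero.mp (mstalk_smul_eq_zero (he x) (hxW x) ?_)
    rw [mul_smul]
    refine Eq.trans (congrArg (q • ·) ?_) hq
    refine (LocalizedModule.mk_smul_mk _ _ _ _).trans ?_
    rw [mul_one, ← Mero.germ_smul]

end GrothLib.Mero
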