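import Groth.Agent.Lib.Mero.DivMod
import Groth.Agent.Lib.FinCov.Bilinear
import Groth.Agent.Lib.VA.Tensor

/-! # Products of divisors and tensor products of their fractional ideals -/

set_option autoImplicit false
set_option backward.isDefEq.respectTransparency false
universe u
open CategoryTheory AlgebraicGeometry TopologicalSpace Opposite GrothLib.InvExt

namespace GrothLib.Mero

variable {X : Scheme.{u}}

/-- The local generator `f⁻¹` of `O_X(D)` where `D = div f`. -/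
noncomputable def divGen {D : Mero.Divisor X} {U : X.Opens} (f : (Γ(Mero.kmod X, U))ˣ)
    (hf : ∀ y : U, D.1 y.1 = Mero.germOf f y) : Γ(Mero.divMod D, U) :=
  ⟨(↑f⁻¹ : Γ(Mero.kmod X, U)).1, (↑f⁻¹ : Γ(Mero.kmod X, U)).2, fun y =>
    (divCond_iff (hf y) _).mpr
      ⟨1, (map_one _).trans (congrArg (fun t : Γ(Mero.kmod X, U) => t.1 y) f.inv_mul).symm⟩⟩

theorem isGen_divGen {D : Mero.Divisor X} {U : X.Opens} (f : (Γ(Mero.kmod X, U))ˣ)
    (hf : ∀ y : U, D.1 y.1 = Mero.germOf f y) : IsGen (Mero.divMod D) U (divGen f hf) := fun T h => by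
  refine ⟨fun c d hcd => ?_, fun m => ?_⟩
  · refine TopCat.Presheaf.section_ext X.sheaf T _ _ fun y hy => ?_
    change X.presheaf.germ _ _ hy c = X.presheaf.germ _ _ hy d
    have h1 := congrArg (fun t : Γ(Mero.divMod D, T) => t.1 ⟨y, hy⟩) hcd
    change X.presheaf.germ T y hy c • _ = X.presheaf.germ T y hy d • _ at h1
    rw [Algebra.smul_def, Algebra.smul_def] at h1
    exact Mero.algebraMap_KStalk_injective y
      (IsUnit.mul_right_cancel (Units.map (Mero.evalK X U ⟨y, h hy⟩).toMonoidHom f⁻¹).isUnit h1)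
  · let m0 : Γ(Mero.kmod X, T) := ⟨m.1, m.2.1⟩
    obtain ⟨c, hc⟩ := exists_toK_eq (m0 * (Mero.kmod X).presheaf.map (homOfLE h).op (f : Γ(Mero.kmod X, U)))
      fun y => (divCond_iff (hf ⟨y.1, h y.2⟩) _).mp (m.2.2 y)
    refine ⟨c, Subtype.ext (funext fun y => ?_)⟩
    change X.presheaf.germ T y.1 y.2 c • _ = _
    rw [Algebra.smul_def, ← toK_apply_eq c y, hc]
    change m.1 y * (f : Γ(Mero.kmod X, U)).1 ⟨y.1, h y.2⟩ * (↑f⁻¹ : Γ(Mero.kmod X, U)).1 ⟨y.1, h y.2⟩ = _
    rw [mul_assoc, ← Mero.kmod_mul_apply, Units.mul_inv, Mero.kmod_one_apply, mul_one]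

theorem app_smul_mres {M N : X.Modules} (φ : M ⟶ N) {V W : X.Opens} (hW : W ≤ V) (c : Γ(X, W)) (e : Γ(M, V)) :
    φ.app W (c • mres M hW e) = c • mres N hW (φ.app V e) := by
  rw [Scheme.Modules.Hom.app_smul]
  exact congrArg (c • ·) (φ.mapPresheaf.naturality_apply (homOfLE hW).op e)

/-- A morphism carrying generators to generators near every point is an isomorphism. -/
theorem isIso_of_gens {M N : X.Modules} (φ : M ⟶ N)
    (h : ∀ x : X, ∃ (V : X.Opens) (e : Γ(M, V)), x ∈ V ∧ IsGen M V e ∧ IsGen N V (φ.app V e)) : IsIso φ := by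
  choose V e hxV hM hN using h
  have hloc : ∀ (x : X) (W : X.Opens), W ≤ V x → Function.Bijective (φ.app W) := by
    intro x W hW
    refine ⟨fun a b hab => ?_, fun n => ?_⟩
    · obtain ⟨c, rfl⟩ := (hM x).exists_smul_eq hW a
      obtain ⟨d, rfl⟩ := (hM x).exists_smul_eq hW b
      rw [app_smul_mres, app_smul_mres] at hab
      rw [(hN x).smul_left_injective hW hab]
    · obtain ⟨c, rfl⟩ := (hN x).exists_smul_eq hW n
      exact ⟨_, app_smul_mres φ hW c (e x)⟩
  refine Scheme.Modules.Hom.isIso_iff_isIso_app.mpr fun U => (ConcreteCategory.isIso_iff_bijective _).mpr ?_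
  have hcov : U ≤ ⨆ x : X, U ⊓ V x := fun y hy => Opens.mem_iSup.mpr ⟨y, hy, hxV y⟩
  have hinj : ∀ (U : X.Opens) (a b : Γ(M, U)), φ.app U a = φ.app U b → a = b := by
    intro U a b hab
    refine TopCat.Sheaf.eq_of_locally_eq' ⟨M.presheaf, M.isSheaf⟩ (fun x => U ⊓ V x) U (fun x => homOfLE inf_le_left)
      (fun y hy => Opens.mem_iSup.mpr ⟨y, hy, hxV y⟩) a b fun x => (hloc x _ inf_le_right).1 ?_
    exact (φ.mapPresheaf.naturality_apply (homOfLE (inf_le_left : U ⊓ V x ≤ U)).op a).trans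
      ((congrArg (mres N (inf_le_left : U ⊓ V x ≤ U)) hab).trans
        (φ.mapPresheaf.naturality_apply (homOfLE (inf_le_left : U ⊓ V x ≤ U)).op b).symm)
  refine ⟨fun a b hab => hinj U a b hab, fun n => ?_⟩
  choose m hm using fun x => (hloc x (U ⊓ V x) inf_le_right).2 (mres N inf_le_left n)
  obtain ⟨g, hg, -⟩ := TopCat.Sheaf.existsUnique_gluing' ⟨M.presheaf, M.isSheaf⟩ (fun x => U ⊓ V x) U
    (fun x => homOfLE inf_le_left) hcov m fun i j => by
      refine hinj _ _ _ ?_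
      refine (φ.mapPresheaf.naturality_apply (homOfLE inf_le_left).op (m i)).trans ?_
      refine Eq.trans ?_ (φ.mapPresheaf.naturality_apply (homOfLE inf_le_right).op (m j)).symm
      refine (congrArg (mres N inf_le_left) (hm i)).trans (Eq.trans ?_ (congrArg (mres N inf_le_right) (hm j)).symm)
      rw [mres_mres, mres_mres]
  refine ⟨g, TopCat.Sheaf.eq_of_locally_eq' ⟨N.presheaf, N.isSheaf⟩ (fun x => U ⊓ V x) U (fun x => homOfLE inf_le_left)
    hcov _ _ fun x => ?_⟩
  exact (φ.mapPresheaf.naturality_apply (homOfLE inf_le_left).op g).symm.trans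
    ((congrArg (φ.app _) (hg x)).trans (hm x))

/-- Multiplication `O_X(D) × O_X(E) → O_X(DE)`. -/
noncomputable def mulPairing (D E : Mero.Divisor X) :
    GrothLib.FinCov.Pairing (Mero.divMod D) (Mero.divMod E) (Mero.divMod (D * E)) where
  f U t t' := ⟨fun y => t.1 y * t'.1 y, Mero.kLoc_mul X U t.1 t'.1 t.2.1 t'.2.1, fun y => by
    obtain ⟨g, hg⟩ := QuotientGroup.mk_surjective (D.1 y.1)
    obtain ⟨g', hg'⟩ := QuotientGroup.mk_surjective (E.1 y.1)
    rw [divCond_iff (g := g * g') (show D.1 y.1 * E.1 y.1 = _ by rw [← hg, ← hg', QuotientGroup.mk_mul]),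
      Units.val_mul, mul_mul_mul_comm]
    exact mul_mem ((divCond_iff hg.symm _).mp (t.2.2 y)) ((divCond_iff hg'.symm _).mp (t'.2.2 y))⟩
  add_left U m m' n := Subtype.ext <| funext fun y => add_mul _ _ _
  smul_left U r m n := Subtype.ext <| funext fun y => smul_mul_assoc _ _ _
  add_right U m n n' := Subtype.ext <| funext fun y => mul_add _ _ _
  smul_right U r m n := Subtype.ext <| funext fun y => mul_smul_comm _ _ _
  map i m n := rfl

theorem isIso_mulPairing (D E : Mero.Divisor X) : IsIso (mulPairing D E).hom := by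
  refine isIso_of_gens _ fun x => ?_
  obtain ⟨U, hxU, f, hf⟩ := D.2 x
  obtain ⟨U', hxU', f', hf'⟩ := E.2 x
  let V := U ⊓ U'
  let fV : (Γ(Mero.kmod X, V))ˣ :=
    Units.map ((Mero.kring X).obj.map (homOfLE (inf_le_left : V ≤ U)).op).hom.toMonoidHom f
  let fV' : (Γ(Mero.kmod X, V))ˣ :=
    Units.map ((Mero.kring X).obj.map (homOfLE (inf_le_right : V ≤ U')).op).hom.toMonoidHom f'
  have hfV : ∀ y : V, D.1 y.1 = Mero.germOf fV y := fun y =>
    (hf ⟨y.1, y.2.1⟩).trans (congrArg _ (Units.ext rfl))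
  have hfV' : ∀ y : V, E.1 y.1 = Mero.germOf fV' y := fun y =>
    (hf' ⟨y.1, y.2.2⟩).trans (congrArg _ (Units.ext rfl))
  have hprod : ∀ y : V, (D * E).1 y.1 = Mero.germOf (fV * fV') y := fun y => by
    change D.1 y.1 * E.1 y.1 = _
    rw [hfV y, hfV' y, Mero.germOf, Mero.germOf, Mero.germOf, map_mul, QuotientGroup.mk_mul]
  refine ⟨V, GrothLib.VA.tm (divGen fV hfV) (divGen fV' hfV'), ⟨hxU, hxU'⟩,
    GrothLib.VA.isGen_tm (isGen_divGen fV hfV) (isGen_divGen fV' hfV'), ?_⟩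
  have e : (mulPairing D E).hom.app V (GrothLib.VA.tm (divGen fV hfV) (divGen fV' hfV')) = divGen (fV * fV') hprod := by
    refine ((mulPairing D E).hom_tmul V _ _).trans (Subtype.ext (funext fun y => ?_))
    change (↑fV⁻¹ : Γ(Mero.kmod X, V)).1 y * (↑fV'⁻¹ : Γ(Mero.kmod X, V)).1 y = (↑(fV * fV')⁻¹ : Γ(Mero.kmod X, V)).1 y
    rw [mul_inv, Units.val_mul, Mero.kmod_mul_apply]
  rw [e]
  exact isGen_divGen _ _

end GrothLib.Mero
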