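import Groth.Prelude.Def_MeroSh
import Groth.Agent.Lib.BlowUp.Regular
import Groth.Agent.Lib.BlowUp.EffCartier
import Groth.Agent.Lib.WeakAss.Structure
import Groth.Agent.Lib.AssPts.Restrict
import Groth.Agent.Lib.HomSh.Coherent

/-! # Regular sections of the structure sheaf and weakly associated points -/

set_option autoImplicit false
universe u
open CategoryTheory AlgebraicGeometry TopologicalSpace Opposite

namespace GrothLib.Mero

open GrothLib.WeakAss

variable {X : Scheme.{u}}

/-- Weakly associated point of the scheme. -/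
abbrev IsWA (y : X) : Prop := Curv2.IsWeakAssPoint (Coh.structureModule X) y

theorem mem_basicOpen_iff {W : X.Opens} {y : X} (hy : y ∈ W) (f : Γ(X, W)) :
    y ∈ X.basicOpen f ↔ IsUnit (X.presheaf.germ W y hy f) := Scheme.mem_basicOpen _ f y hy

/-- A function with zero germ is killed by a function invertible at the point. -/
theorem exists_mul_eq_zero_of_germ {V : X.Opens} (hV : IsAffineOpen V) {x : X} (hx : x ∈ V) {a : Γ(X, V)}
    (h : X.presheaf.germ V x hx a = 0) : ∃ c : Γ(X, V), c ∉ primeAt x hx ∧ c * a = 0 := by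
  let _ := X.presheaf.algebra_section_stalk ⟨x, hx⟩
  have := hV.isLocalization_stalk ⟨x, hx⟩
  obtain ⟨c, hc⟩ := (IsLocalization.map_eq_zero_iff (hV.primeIdealOf ⟨x, hx⟩).asIdeal.primeCompl
    (X.presheaf.stalk x) a).1 h
  exact ⟨c.1, notMem_primeAt_iff.2 ((Scheme.mem_basicOpen _ _ x hx).2 (IsLocalization.map_units (X.presheaf.stalk x) c)), hc⟩

/-- A germ which is a nonzerodivisor at `x` is invertible at weakly associated points generalising `x`. -/
theorem isUnit_germ_of_nzd {W : X.Opens} {f : Γ(X, W)} {x : X} (hx : x ∈ W)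
    (hf : X.presheaf.germ W x hx f ∈ nonZeroDivisors (X.presheaf.stalk x)) {y : X} (hy : IsWA y) (hyx : y ⤳ x) :
    y ∈ X.basicOpen f := by
  obtain ⟨V, hxV, hVW⟩ := GrothLib.BlowUp.exists_affine_mem_le hx
  have hyV : y ∈ V.1 := hyx.mem_open V.1.2 hxV
  let g : Γ(X, V.1) := X.presheaf.map (homOfLE hVW).op f
  suffices hg : g ∉ primeAt y hyV by
    rw [notMem_primeAt_iff, Scheme.basicOpen_res] at hg
    exact hg.2
  obtain ⟨z₀, hz⟩ := exists_minimal_of_isWeakAssPoint V.2 hyV hy
  obtain ⟨z, rfl⟩ : ∃ z : Γ(X, V.1), toModSec z = z₀ := ⟨z₀, rfl⟩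
  intro hg
  have hgx : X.presheaf.germ V.1 x hxV g ∈ nonZeroDivisors (X.presheaf.stalk x) := by
    simp only [g, TopCat.Presheaf.germ_res_apply]
    exact hf
  let J : Ideal Γ(X, V.1) :=
    ((⊥ : Ideal (X.presheaf.stalk x)).colon {X.presheaf.germ V.1 x hxV z}).comap (X.presheaf.germ V.1 x hxV).hom
  have hmemJ : ∀ a, a ∈ J ↔ X.presheaf.germ V.1 x hxV (a * z) = 0 := fun a => by
    rw [Ideal.mem_comap, Submodule.mem_colon_singleton, Submodule.mem_bot, smul_eq_mul, map_mul]
  have hJ : primeAt y hyV ∈ J.minimalPrimes := by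
    refine ⟨⟨inferInstance, fun a ha => ?_⟩, fun q hq hqp => hz.2 ⟨hq.1, fun a ha => hq.2 ((hmemJ a).2 ?_)⟩ hqp⟩
    · obtain ⟨c, hc, hcz⟩ := exists_mul_eq_zero_of_germ V.2 hxV ((hmemJ a).1 ha)
      have hcy : c ∉ primeAt y hyV := by
        rw [notMem_primeAt_iff] at hc ⊢
        exact hyx.mem_open (X.basicOpen c).2 hc
      exact ((inferInstance : (primeAt y hyV).IsPrime).mem_or_mem
        (hz.1.2 (mem_annSec_structure.mpr ((mul_assoc c a z).trans hcz)))).resolve_left hcy
    · rw [mem_annSec_structure.mp ha, map_zero]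
  obtain ⟨s, hs, hgs⟩ := Ideal.exists_mul_mem_of_mem_minimalPrimes hJ hg
  rw [hmemJ, mul_assoc, map_mul] at hgs
  exact hs ((hmemJ s).2 (mem_nonZeroDivisors_iff_left.1 hgx _ hgs))

/-- Regular sections are those invertible at all weakly associated points. -/
theorem regSub_iff {W : X.Opens} (f : Γ(X, W)) :
    f ∈ Mero.regSub X W ↔ ∀ y : X, y ∈ W → IsWA y → y ∈ X.basicOpen f := by
  constructor
  · intro h y hy hwa
    exact isUnit_germ_of_nzd hy (h ⟨y, hy⟩) hwa specializes_rfl
  · rintro h ⟨x, hx⟩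
    obtain ⟨V, hxV, hVW⟩ := GrothLib.BlowUp.exists_affine_mem_le hx
    have hg : X.presheaf.map (homOfLE hVW).op f ∈ nonZeroDivisors Γ(X, V.1) := by
      rw [mem_nonZeroDivisors_iff_right]
      intro z hz
      by_contra hne
      obtain ⟨y, hyV, hy, hzy⟩ := exists_isWeakAssPoint (F := Coh.structureModule X) V.2 (z := toModSec z) hne
      refine hzy ?_
      have hu := (mem_basicOpen_iff (hVW hyV) f).1 (h y (hVW hyV) hy)
      have h0 := congrArg (X.presheaf.germ V.1 y hyV) hz
      rw [map_mul, map_zero, TopCat.Presheaf.germ_res_apply] at h0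
      have h1 : X.presheaf.germ V.1 y hyV z = 0 := hu.mul_left_eq_zero.1 h0
      refine (germ_eq_zero_iff (F := Coh.structureModule X) V.2 hyV (toModSec z)).mpr ?_
      obtain ⟨c, hc, hcz⟩ := exists_mul_eq_zero_of_germ V.2 hyV h1
      exact ⟨c, hc, hcz⟩
    have := GrothLib.BlowUp.germ_mem_nonZeroDivisors hg hxV
    rwa [TopCat.Presheaf.germ_res_apply] at this

/-- On affine opens regular sections are nonzerodivisors. -/
theorem regSub_eq_nonZeroDivisors (U : X.affineOpens) :
    Mero.regSub X U.1 = nonZeroDivisors Γ(X, U.1) := by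
  ext f
  exact ⟨fun h => GrothLib.BlowUp.mem_nonZeroDivisors_of_germ fun x hx => h ⟨x, hx⟩,
    fun h x => GrothLib.BlowUp.germ_mem_nonZeroDivisors h x.2⟩

/-- Locally only finitely many weakly associated points. -/
def LocFiniteWA (X : Scheme.{u}) : Prop :=
  ∀ V : X.affineOpens, ({y : X | IsWA y} ∩ (V.1 : Set X)).Finite

theorem locFiniteWA_of_noetherian [IsLocallyNoetherian X] : LocFiniteWA X := fun V => by
  refine (GrothLib.AssPts.finite_ass_inter_affine (Coh.structureModule X)
    (GrothLib.HomSh.isCoh_structureModule X) V.2).subset fun y hy => ⟨?_, hy.2⟩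
  exact (isAssPoint_iff_isWeakAssPoint y).mpr hy.1

/-- With locally finitely many weakly associated points every nonzerodivisor germ is the germ of a regular section. -/
theorem regStalk_eq (h : LocFiniteWA X) (x : X) :
    Mero.regStalk X x = nonZeroDivisors (X.presheaf.stalk x) := by
  refine le_antisymm (Mero.regStalk_le_nonZeroDivisors x) fun g hg => ?_
  obtain ⟨U, hxU, f, rfl⟩ := X.presheaf.exists_germ_eq g
  obtain ⟨V, hxV, hVU⟩ := GrothLib.BlowUp.exists_affine_mem_le hxU
  let T := {y : X | IsWA y ∧ ¬ y ⤳ x} ∩ (V.1 : Set X)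
  have hT : T.Finite := (h V).subset fun y hy => ⟨hy.1.1, hy.2⟩
  let C : Set X := ⋃ y ∈ T, closure {y}
  have hC : IsClosed C := hT.isClosed_biUnion fun y _ => isClosed_closure
  have hxC : x ∉ C := by
    intro hx
    obtain ⟨y, hy, hyx⟩ := Set.mem_iUnion₂.1 hx
    exact hy.1.2 (specializes_iff_mem_closure.2 hyx)
  let W : X.Opens := V.1 ⊓ ⟨Cᶜ, hC.isOpen_compl⟩
  refine ⟨W, ⟨hxV, hxC⟩, X.presheaf.map (homOfLE ((inf_le_left : W ≤ V.1).trans hVU)).op f, ?_,
    TopCat.Presheaf.germ_res_apply X.presheaf _ _ _ _⟩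
  rw [regSub_iff]
  intro y hyW hy
  rw [Scheme.basicOpen_res]
  refine ⟨hyW, isUnit_germ_of_nzd hxU hg hy ?_⟩
  by_contra hyx
  exact hyW.2 (Set.mem_iUnion₂.2 ⟨y, ⟨⟨hy, hyx⟩, hyW.1⟩, subset_closure rfl⟩)

end GrothLib.Mero

namespace GrothLib.Mero

variable {X : Scheme.{u}}

/-- Finitely many components on quasi-compact opens and no embedded weakly associated points. -/
theorem locFiniteWA_of_components
    (ha : ∀ x : X, IsWA x → ∀ y : X, y ⤳ x → y = x)
    (hb : ∀ U : X.Opens, IsCompact (U : Set X) → (irreducibleComponents ↥(U : Scheme.{u})).Finite) :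
    LocFiniteWA X := fun V => by
  classical
  refine Set.Finite.of_finite_image (f := fun y =>
    if h : y ∈ V.1 then closure ({⟨y, h⟩} : Set ↥(V.1 : Scheme.{u})) else ∅) ((hb V.1 V.2.isCompact).subset ?_) ?_
  · rintro _ ⟨y, ⟨hy, hyV⟩, rfl⟩
    simp only [dif_pos (SetLike.mem_coe.mp hyV)]
    refine ⟨isIrreducible_singleton.closure, fun Z hZ hle => ?_⟩
    obtain ⟨z, hz⟩ := QuasiSober.sober hZ.closure isClosed_closure
    have hzy : z ⤳ ⟨y, hyV⟩ := hz.specializes (subset_closure (hle (subset_closure rfl)))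
    have : z = ⟨y, hyV⟩ := Subtype.ext (ha y hy z.1 (hzy.map V.1.ι.continuous))
    exact subset_closure.trans (by rw [← hz, this])
  · rintro a ⟨-, ha'⟩ b ⟨-, hb'⟩ h
    simp only [dif_pos (SetLike.mem_coe.mp ha'), dif_pos (SetLike.mem_coe.mp hb')] at h
    exact congrArg (fun z : ↥(V.1 : Scheme.{u}) => z.1)
      ((inseparable_iff_closure_eq.mpr h).eq)

end GrothLib.Mero
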