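import Groth.Agent.Lib.Mero.ZeroScheme
import Groth.Agent.Lib.Ample.Generation

/-! # Divisors of ideals: uniqueness, effective divisors, products -/

set_option autoImplicit false
set_option backward.isDefEq.respectTransparency false
universe u
open CategoryTheory CategoryTheory.Limits AlgebraicGeometry TopologicalSpace Opposite
open GrothLib.InvExt (mres IsGen)

namespace GrothLib.Mero.Zero

variable {X : Scheme.{u}}

/-- The class of the germ of a regular section. -/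
noncomputable def classOf {y : X} (a : Mero.regStalk X y) : Mero.Germ X y :=
  QuotientGroup.mk (IsLocalization.map_units (Mero.KStalk X y) a).unit

theorem classOf_eq {y : X} {a b : Mero.regStalk X y} {u : X.presheaf.stalk y} (hu : IsUnit u)
    (h : (a : X.presheaf.stalk y) = u * b) : classOf a = classOf b := by
  obtain ⟨v, rfl⟩ := hu
  refine (QuotientGroup.eq.mpr (show _ ∈ Mero.stalkUnits X y from ⟨v, Units.ext ?_⟩)).symm
  rw [Units.val_mul]
  refine Eq.trans ?_ (congrArg (_ * ·) (IsUnit.unit_spec _).symm)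
  change algebraMap _ (Mero.KStalk X y) (v : X.presheaf.stalk y) = _ * algebraMap _ _ (a : X.presheaf.stalk y)
  rw [h, map_mul, mul_comm (algebraMap _ _ _) (algebraMap _ _ _), ← mul_assoc, IsUnit.val_inv_mul, one_mul]

theorem classOf_mul {y : X} (a b : Mero.regStalk X y) : classOf (a * b) = classOf a * classOf b := by
  rw [classOf, classOf, classOf, ← QuotientGroup.mk_mul]
  refine congrArg _ (Units.ext ?_)
  rw [Units.val_mul, IsUnit.unit_spec, IsUnit.unit_spec, IsUnit.unit_spec, Submonoid.coe_mul, map_mul]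

theorem unit_eq_of_span_eq {R : Type*} [CommRing R] {a b : R} (ha : a ∈ nonZeroDivisors R)
    (h : Ideal.span {a} = Ideal.span {b}) : ∃ u, IsUnit u ∧ b = u * a := by
  obtain ⟨u, hu⟩ := Ideal.mem_span_singleton'.mp (h.ge (Ideal.mem_span_singleton_self b))
  obtain ⟨v, hv⟩ := Ideal.mem_span_singleton'.mp (h.le (Ideal.mem_span_singleton_self a))
  refine ⟨u, IsUnit.of_mul_eq_one v ?_, hu.symm⟩
  refine sub_eq_zero.mp (mem_nonZeroDivisors_iff_right.mp ha _ ?_)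
  rw [sub_mul, mul_comm u v, mul_assoc, hu, hv, one_mul, sub_self]

/-- Local equations of an ideal sheaf have the same classes. -/
theorem classOf_eq_of_ideal {I : X.IdealSheafData} {U V : X.affineOpens} {f : Γ(X, U.1)} (hf : f ∈ Mero.regSub X U.1)
    {g : Γ(X, V.1)} (hg : g ∈ Mero.regSub X V.1) (hU : I.ideal U = Ideal.span {f}) (hV : I.ideal V = Ideal.span {g})
    {y : X} (hyU : y ∈ U.1) (hyV : y ∈ V.1) :
    classOf (Mero.regGerm ⟨y, hyU⟩ ⟨f, hf⟩) = classOf (Mero.regGerm ⟨y, hyV⟩ ⟨g, hg⟩) := by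
  obtain ⟨a, b, hab, hya⟩ := exists_basicOpen_le_affine_inter U.2 V.2 y ⟨hyU, hyV⟩
  have h1 := I.map_ideal_basicOpen U a
  have h2 : I.ideal (X.affineBasicOpen a) = (I.ideal V).map (X.presheaf.map (homOfLE (hab.le.trans (X.basicOpen_le b))).op).hom := by
    exact (I.map_ideal (U := X.affineBasicOpen a) (V := V) (hab.le.trans (X.basicOpen_le b))).symm
  rw [hU, Ideal.map_span, Set.image_singleton] at h1
  rw [hV, Ideal.map_span, Set.image_singleton, ← h1] at h2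
  have hfr := Mero.regSub_res (X := X) (homOfLE (X.basicOpen_le a)) hf
  obtain ⟨u, hu, hge⟩ := unit_eq_of_span_eq ((regSub_eq_nonZeroDivisors (X.affineBasicOpen a)).le hfr) h2
  refine (classOf_eq (u := X.presheaf.germ (X.basicOpen a) y hya u) (hu.map _) ?_).symm
  have h3 := congrArg (X.presheaf.germ (X.basicOpen a) y hya) hge
  change X.presheaf.germ (X.basicOpen a) y hya (X.presheaf.map _ g) = _ at h3
  rw [TopCat.Presheaf.germ_res_apply, map_mul] at h3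
  refine h3.trans (congrArg (_ * ·) ?_)
  exact TopCat.Presheaf.germ_res_apply X.presheaf _ _ _ _

theorem divisor_apply_of_isDivOfIdeal {D : Mero.Divisor X} {I : X.IdealSheafData} (hD : Mero.IsDivOfIdeal D I)
    {U : X.affineOpens} {f : Γ(X, U.1)} (hf : f ∈ Mero.regSub X U.1) (hU : I.ideal U = Ideal.span {f})
    (y : U.1) : D.1 y.1 = classOf (Mero.regGerm y ⟨f, hf⟩) := by
  obtain ⟨V, hyV, g, hg, hV, hDg⟩ := hD y.1
  exact (hDg ⟨y.1, hyV⟩).trans (classOf_eq_of_ideal hg hf hV hU hyV y.2)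

variable {L : X.Modules}

theorem exists_affine_data {s : Coh.structureModule X ⟶ L} (h : IsRegularSec s) (x : X) :
    ∃ (U : X.affineOpens) (_ : x ∈ U.1) (e : Γ(L, U.1)) (c : Γ(X, U.1)),
      IsGen L U.1 e ∧ c ∈ Mero.regSub X U.1 ∧ gsecOf s U.1 = c • e := by
  obtain ⟨V, e, c, hxV, he, hc, hs⟩ := h x
  obtain ⟨U, hxU, hUV⟩ := GrothLib.BlowUp.exists_affine_mem_le hxV
  exact ⟨U, hxU, mres L hUV e, X.presheaf.map (homOfLE hUV).op c, he.restrict hUV, Mero.regSub_res _ hc,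
    by rw [← gsecOf_mres s hUV, hs, GrothLib.InvExt.mres_smul]⟩

/-- An effective divisor is the zero scheme divisor of the canonical section of `O_X(D)`. -/
theorem exists_section_of_effective (hL : PicF.IsInvertible L) {D : Mero.Divisor X} (hD : Mero.IsEffective D)
    (e : L ≅ Mero.divMod D) : ∃ s : Coh.structureModule X ⟶ L, IsRegularSec s ∧
      Mero.IsDivOfIdeal D (PicF2.zeroScheme L s) := by
  have hint : ∀ (y : X) (g : (Mero.KStalk X y)ˣ), D.1 y = QuotientGroup.mk g → (g : Mero.KStalk X y) ∈ intRing y :=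
    fun y g hg => mem_of_isEffectiveAt hg (hD y)
  let one' : Γ(Mero.divMod D, ⊤) := ⟨fun _ => 1, Mero.kLoc_one X ⊤, fun y g hg => by
    rw [one_mul]; exact hint y.1 g hg⟩
  let σ := GrothLib.Ample.globalSection L (e.inv.app ⊤ one')
  let s : Coh.structureModule X ⟶ L := L.unitHomEquiv.symm σ
  have hs : gsecOf s ⊤ = e.inv.app ⊤ one' := by
    refine (congrArg (fun τ => τ.val (op ⊤)) (L.unitHomEquiv.apply_symm_apply σ)).trans ?_
    exact GrothLib.InvExt.mres_self L _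
  have hchart : ∀ x : X, ∃ (U : X.affineOpens) (_ : x ∈ U.1) (eL : Γ(L, U.1)) (c : Γ(X, U.1)) (hc : c ∈ Mero.regSub X U.1),
      IsGen L U.1 eL ∧ gsecOf s U.1 = c • eL ∧ ∀ y : U.1, D.1 y.1 = classOf (Mero.regGerm y ⟨c, hc⟩) := by
    intro x
    obtain ⟨W, hxW, f, hf⟩ := D.2 x
    obtain ⟨U, hxU, hUW⟩ := GrothLib.BlowUp.exists_affine_mem_le hxW
    obtain ⟨c, hc⟩ := exists_toK_eq ((Mero.kmod X).presheaf.map (homOfLE hUW).op (f : Γ(Mero.kmod X, W)))
      fun y => hint y.1 _ (hf ⟨y.1, hUW y.2⟩)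
    have hcv : ∀ y : U.1, algebraMap _ (Mero.KStalk X y.1) (X.presheaf.germ U.1 y.1 y.2 c) =
        (f : Γ(Mero.kmod X, W)).1 ⟨y.1, hUW y.2⟩ := fun y => by rw [← toK_apply_eq, hc]; rfl
    have hcreg : c ∈ Mero.regSub X U.1 := fun y => by
      rw [mem_nonZeroDivisors_iff_right]
      intro r hr
      refine Mero.algebraMap_KStalk_injective y.1 ?_
      rw [map_zero]
      have hu : IsUnit ((f : Γ(Mero.kmod X, W)).1 ⟨y.1, hUW y.2⟩) :=
        (Units.map (Mero.evalK X W ⟨y.1, hUW y.2⟩).toMonoidHom f).isUnit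
      refine hu.mul_left_eq_zero.mp ?_
      rw [← hcv y, ← map_mul, hr, map_zero]
    have hgen := (isGen_divGen f hf).restrict hUW
    have hcanc : ∀ (T : X.Opens) (t : Γ(Mero.divMod D, T)), e.hom.app T (e.inv.app T t) = t := fun T t =>
      congrArg (fun g : Mero.divMod D ⟶ Mero.divMod D => g.app T t) e.inv_hom_id
    have hcanc' : ∀ (T : X.Opens) (t : Γ(L, T)), e.inv.app T (e.hom.app T t) = t := fun T t =>
      congrArg (fun g : L ⟶ L => g.app T t) e.hom_inv_id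
    have heL : IsGen L U.1 (e.inv.app U.1 (mres _ hUW (divGen f hf))) := fun T hT => by
      have e1 : (fun r : Γ(X, T) => r • mres L hT (e.inv.app U.1 (mres _ hUW (divGen f hf)))) =
          e.inv.app T ∘ fun r : Γ(X, T) => r • mres _ hT (mres _ hUW (divGen f hf)) :=
        funext fun r => (app_smul_mres e.inv hT r _).symm
      rw [e1]
      exact (Function.bijective_iff_has_inverse.mpr ⟨e.hom.app T, hcanc T, hcanc' T⟩).comp (hgen T hT)
    refine ⟨U, hxU, _, c, hcreg, heL, ?_, fun y => ?_⟩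
    · rw [← gsecOf_mres s (le_top : U.1 ≤ ⊤), hs, ← Scheme.Modules.Hom.app_smul]
      refine (e.inv.mapPresheaf.naturality_apply (homOfLE (le_top : U.1 ≤ ⊤)).op one').symm.trans
        (congrArg (e.inv.app U.1) (Subtype.ext (funext fun y => ?_)))
      change 1 = X.presheaf.germ U.1 y.1 y.2 c • (↑f⁻¹ : Γ(Mero.kmod X, W)).1 ⟨y.1, hUW y.2⟩
      rw [Algebra.smul_def, hcv y, ← Mero.kmod_mul_apply, Units.mul_inv, Mero.kmod_one_apply]
    · refine (hf ⟨y.1, hUW y.2⟩).trans (congrArg QuotientGroup.mk (Units.ext ?_))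
      rw [IsUnit.unit_spec]
      exact (hcv y).symm
  have hreg : IsRegularSec s := fun x => by
    obtain ⟨U, hxU, eL, c, hc, he, hsc, -⟩ := hchart x
    exact ⟨U.1, eL, c, hxU, he, hc, hsc⟩
  refine ⟨s, hreg, fun x => ?_⟩
  obtain ⟨U, hxU, eL, c, hc, he, hsc, hD'⟩ := hchart x
  exact ⟨U, hxU, c, hc, zeroScheme_ideal_gen hL hreg U he hsc, hD'⟩

/-- Products. -/
theorem isDivOfIdeal_tmulHom {L₁ L₂ : X.Modules} (h₁ : PicF.IsInvertible L₁) (h₂ : PicF.IsInvertible L₂)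
    {s₁ : Coh.structureModule X ⟶ L₁} {s₂ : Coh.structureModule X ⟶ L₂} (hs₁ : IsRegularSec s₁) (hs₂ : IsRegularSec s₂)
    {D₁ D₂ : Mero.Divisor X} (hD₁ : Mero.IsDivOfIdeal D₁ (PicF2.zeroScheme L₁ s₁))
    (hD₂ : Mero.IsDivOfIdeal D₂ (PicF2.zeroScheme L₂ s₂)) :
    Mero.IsDivOfIdeal (D₁ * D₂) (PicF2.zeroScheme (CohB1.tensorMod L₁ L₂) (SecTwist.tmulHom s₁ s₂)) := by
  have hdata : ∀ x : X, ∃ (U : X.affineOpens) (_ : x ∈ U.1) (e₁ : Γ(L₁, U.1)) (e₂ : Γ(L₂, U.1))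
      (c₁ c₂ : Γ(X, U.1)), IsGen L₁ U.1 e₁ ∧ IsGen L₂ U.1 e₂ ∧ c₁ ∈ Mero.regSub X U.1 ∧ c₂ ∈ Mero.regSub X U.1 ∧
      gsecOf s₁ U.1 = c₁ • e₁ ∧ gsecOf s₂ U.1 = c₂ • e₂ := by
    intro x
    obtain ⟨A, hxA, a₁, b₁, ha₁, hb₁, hsa⟩ := exists_affine_data hs₁ x
    obtain ⟨B, hxB, a₂, b₂, ha₂, hb₂, hsb⟩ := exists_affine_data hs₂ x
    obtain ⟨U, hxU, hU⟩ := GrothLib.BlowUp.exists_affine_mem_le (show x ∈ A.1 ⊓ B.1 from ⟨hxA, hxB⟩)
    exact ⟨U, hxU, _, _, _, _, ha₁.restrict (hU.trans inf_le_left), ha₂.restrict (hU.trans inf_le_right),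
      Mero.regSub_res (homOfLE (hU.trans inf_le_left)) hb₁, Mero.regSub_res (homOfLE (hU.trans inf_le_right)) hb₂,
      by rw [← gsecOf_mres s₁ (hU.trans inf_le_left), hsa, GrothLib.InvExt.mres_smul],
      by rw [← gsecOf_mres s₂ (hU.trans inf_le_right), hsb, GrothLib.InvExt.mres_smul]⟩
  have hchart : ∀ {U : X.affineOpens} {e₁ : Γ(L₁, U.1)} {e₂ : Γ(L₂, U.1)} {c₁ c₂ : Γ(X, U.1)},
      gsecOf s₁ U.1 = c₁ • e₁ → gsecOf s₂ U.1 = c₂ • e₂ →
      gsecOf (SecTwist.tmulHom s₁ s₂) U.1 = (c₁ * c₂) • GrothLib.VA.tm e₁ e₂ := by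
    intro U e₁ e₂ c₁ c₂ h1 h2
    refine (SecTwist.val_tmulHom s₁ s₂ U.1).trans ?_
    change GrothLib.VA.tm (gsecOf s₁ U.1) (gsecOf s₂ U.1) = _
    rw [h1, h2, GrothLib.VA.tm_smul_left, GrothLib.VA.tm_smul_right, smul_smul]
  have hLT : PicF.IsInvertible (CohB1.tensorMod L₁ L₂) := GrothLib.InvExt.isInvertible_of_gens fun x => by
    obtain ⟨U, hxU, e₁, e₂, c₁, c₂, he₁, he₂, -⟩ := hdata x
    exact ⟨U.1, _, hxU, GrothLib.VA.isGen_tm he₁ he₂⟩
  have hreg : IsRegularSec (SecTwist.tmulHom s₁ s₂) := fun x => by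
    obtain ⟨U, hxU, e₁, e₂, c₁, c₂, he₁, he₂, hc₁, hc₂, hs1, hs2⟩ := hdata x
    exact ⟨U.1, _, c₁ * c₂, hxU, GrothLib.VA.isGen_tm he₁ he₂, mul_mem hc₁ hc₂, hchart hs1 hs2⟩
  intro x
  obtain ⟨U, hxU, e₁, e₂, c₁, c₂, he₁, he₂, hc₁, hc₂, hs1, hs2⟩ := hdata x
  refine ⟨U, hxU, c₁ * c₂, mul_mem hc₁ hc₂,
    zeroScheme_ideal_gen hLT hreg U (GrothLib.VA.isGen_tm he₁ he₂) (hchart hs1 hs2), fun y => ?_⟩
  change D₁.1 y.1 * D₂.1 y.1 = classOf (Mero.regGerm y ⟨c₁ * c₂, mul_mem hc₁ hc₂⟩)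
  rw [divisor_apply_of_isDivOfIdeal hD₁ hc₁ (zeroScheme_ideal_gen h₁ hs₁ U he₁ hs1),
    divisor_apply_of_isDivOfIdeal hD₂ hc₂ (zeroScheme_ideal_gen h₂ hs₂ U he₂ hs2), ← classOf_mul]
  exact congrArg classOf (Subtype.ext (map_mul _ _ _).symm)

end GrothLib.Mero.Zero
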