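import Groth.Prelude.Def_MeroDiv
import Groth.Agent.Lib.Mero.Ass

/-! # Germs of divisors -/

set_option autoImplicit false
universe u
open CategoryTheory AlgebraicGeometry TopologicalSpace Opposite

namespace GrothLib.Mero

variable {X : Scheme.{u}}

/-- The image of the local ring in `K_{X,x}`. -/
noncomputable abbrev intRing (x : X) : Subring (Mero.KStalk X x) :=
  (algebraMap (X.presheaf.stalk x) (Mero.KStalk X x)).range

theorem mem_stalkUnits_iff {x : X} (u : (Mero.KStalk X x)ˣ) :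
    u ∈ Mero.stalkUnits X x ↔ (u : Mero.KStalk X x) ∈ intRing x ∧ (↑u⁻¹ : Mero.KStalk X x) ∈ intRing x := by
  constructor
  · rintro ⟨v, rfl⟩
    exact ⟨⟨(v : X.presheaf.stalk x), rfl⟩, ⟨(↑v⁻¹ : X.presheaf.stalk x), rfl⟩⟩
  · rintro ⟨⟨a, ha⟩, ⟨b, hb⟩⟩
    have hab : a * b = 1 := Mero.algebraMap_KStalk_injective x (by rw [map_mul, map_one, ha, hb, Units.mul_inv])
    exact ⟨⟨a, b, hab, by rw [mul_comm]; exact hab⟩, Units.ext ha⟩

theorem divCond_iff {D : Mero.Divisor X} {x : X} {g : (Mero.KStalk X x)ˣ}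
    (hg : D.1 x = QuotientGroup.mk g) (t : Mero.KStalk X x) :
    Mero.DivCond D x t ↔ t * g ∈ intRing x := by
  refine ⟨fun h => h g hg, fun h g' hg' => ?_⟩
  have he : g⁻¹ * g' ∈ Mero.stalkUnits X x := QuotientGroup.eq.mp (hg.symm.trans hg')
  have : t * (g' : Mero.KStalk X x) = t * g * ((g⁻¹ * g' : (Mero.KStalk X x)ˣ) : Mero.KStalk X x) := by
    rw [Units.val_mul, mul_assoc t, Units.mul_inv_cancel_left]
  rw [this]
  exact mul_mem h ((mem_stalkUnits_iff _).mp he).1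

/-- A germ of a divisor is effective and anti-effective exactly if trivial. -/
theorem germ_eq_of_iff {D D' : Mero.Divisor X} {x : X} {g g' : (Mero.KStalk X x)ˣ}
    (hg : D.1 x = QuotientGroup.mk g) (hg' : D'.1 x = QuotientGroup.mk g')
    (h₁ : (↑g⁻¹ : Mero.KStalk X x) * g' ∈ intRing x) (h₂ : (↑g'⁻¹ : Mero.KStalk X x) * g ∈ intRing x) :
    D.1 x = D'.1 x := by
  rw [hg, hg']
  refine QuotientGroup.eq.mpr ((mem_stalkUnits_iff _).mpr ⟨by rwa [Units.val_mul], ?_⟩)
  rwa [mul_inv_rev, inv_inv, Units.val_mul]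

theorem ext_germ {D D' : Mero.Divisor X} (h : ∀ x : X, D.1 x = D'.1 x) : D = D' := Subtype.ext (funext h)

/-- Where every regular germ is a unit, germs of divisors are trivial. -/
theorem germ_eq_one_of_units {x : X}
    (h : ∀ a ∈ nonZeroDivisors (X.presheaf.stalk x), IsUnit a) (D : Mero.Divisor X) : D.1 x = 1 := by
  have hs : ∀ t : Mero.KStalk X x, t ∈ intRing x := by
    intro t
    obtain ⟨⟨a, s⟩, hs⟩ := IsLocalization.surj (Mero.regStalk X x) t
    obtain ⟨v, hv⟩ := h _ (Mero.regStalk_le_nonZeroDivisors x s.2)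
    refine ⟨a * ↑v⁻¹, ?_⟩
    dsimp only at hs
    rw [map_mul, ← hs, mul_assoc, ← map_mul, ← hv, Units.mul_inv, map_one, mul_one]
  obtain ⟨g, hg⟩ := QuotientGroup.mk_surjective (D.1 x)
  rw [← hg, QuotientGroup.eq_one_iff]
  exact (mem_stalkUnits_iff _).mpr ⟨hs _, hs _⟩

/-- Two sections of `K_X` agreeing pointwise are equal. -/
theorem kmod_ext {U : X.Opens} {s t : Γ(Mero.kmod X, U)} (h : ∀ x : U, s.1 x = t.1 x) : s = t :=
  Subtype.ext (funext h)

theorem mk_eq_zero_iff {x : X} (a : X.presheaf.stalk x) (s : Mero.regStalk X x) :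
    (LocalizedModule.mk a s : Mero.KStalk X x) = 0 ↔ a = 0 := by
  refine ⟨fun h => ?_, fun h => by rw [h, LocalizedModule.zero_mk]⟩
  rw [← LocalizedModule.zero_mk s, LocalizedModule.mk_eq] at h
  obtain ⟨u, hu⟩ := h
  simp only [Submonoid.smul_def, smul_eq_mul, mul_zero] at hu
  exact mem_nonZeroDivisors_iff_left.1 (Mero.regStalk_le_nonZeroDivisors x s.2) _
    (mem_nonZeroDivisors_iff_left.1 (Mero.regStalk_le_nonZeroDivisors x u.2) _ hu)

theorem mk_eq_algebraMap_iff {x : X} (a c : X.presheaf.stalk x) (s : Mero.regStalk X x) :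
    (LocalizedModule.mk a s : Mero.KStalk X x) = algebraMap (X.presheaf.stalk x) (Mero.KStalk X x) c ↔
      a = s.1 * c := by
  rw [← IsLocalization.mk'_one (M := Mero.regStalk X x) (Mero.KStalk X x), ← Localization.mk_eq_mk',
    show (Localization.mk c 1 : Mero.KStalk X x) = LocalizedModule.mk c 1 from rfl, mkK_eq_iff,
    OneMemClass.coe_one, one_mul]

theorem toK_apply_eq {U : X.Opens} (r : Γ(X, U)) (x : U) :
    (Mero.toK X U r).1 x = algebraMap (X.presheaf.stalk x.1) (Mero.KStalk X x.1) (X.presheaf.germ U x.1 x.2 r) :=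
  (mk_eq_algebraMap_iff _ _ _).mpr (one_mul _).symm

/-- A meromorphic function whose values are regular is a function, near every point. -/
theorem exists_nhd_algebraMap {U : X.Opens} (s : Γ(Mero.kmod X, U)) (x : U)
    (hs : s.1 x ∈ intRing x.1) :
    ∃ (W : X.Opens) (hW : W ≤ U), x.1 ∈ W ∧ ∃ c : Γ(X, W), ∀ y : W,
      s.1 ⟨y.1, hW y.2⟩ = algebraMap (X.presheaf.stalk y.1) (Mero.KStalk X y.1) (X.presheaf.germ W y.1 y.2 c) := by
  obtain ⟨W, hxW, i, a, b, hab⟩ := s.2 x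
  obtain ⟨c, hc⟩ := hs
  obtain ⟨W', hxW', c', rfl⟩ := X.presheaf.exists_germ_eq c
  let Z := W ⊓ W'
  have h0 : X.presheaf.germ Z x.1 ⟨hxW, hxW'⟩ (X.presheaf.map (homOfLE (inf_le_left : Z ≤ W)).op a) =
      X.presheaf.germ Z x.1 ⟨hxW, hxW'⟩ (X.presheaf.map (homOfLE (inf_le_left : Z ≤ W)).op b.1 *
        X.presheaf.map (homOfLE (inf_le_right : Z ≤ W')).op c') := by
    have e1 := hab ⟨x.1, hxW⟩
    dsimp only at e1
    change s.1 x = _ at e1
    have e2 := (mk_eq_algebraMap_iff _ _ _).mp (e1.symm.trans hc.symm)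
    simp only [map_mul, TopCat.Presheaf.germ_res_apply]
    exact e2
  obtain ⟨N, hxN, j, j', hj⟩ := X.presheaf.germ_eq x.1 _ _ _ _ h0
  refine ⟨N, (j.le.trans inf_le_left).trans i.le, hxN,
    X.presheaf.map (homOfLE (j.le.trans inf_le_right)).op c', fun y => ?_⟩
  have hyZ : y.1 ∈ Z := j.le y.2
  have e1 := hab ⟨y.1, hyZ.1⟩
  dsimp only at e1
  change s.1 ⟨y.1, _⟩ = _ at e1
  have hy' := congrArg (X.presheaf.germ N y.1 y.2) hj
  simp only [map_mul, TopCat.Presheaf.germ_res_apply] at hy'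
  rw [e1, TopCat.Presheaf.germ_res_apply]
  exact (mk_eq_algebraMap_iff _ _ _).mpr hy'

/-- A meromorphic function with regular values everywhere is a function. -/
theorem exists_toK_eq {U : X.Opens} (s : Γ(Mero.kmod X, U)) (hs : ∀ x : U, s.1 x ∈ intRing x.1) :
    ∃ c : Γ(X, U), Mero.toK X U c = s := by
  choose W hW hxW c hc using fun x : U => exists_nhd_algebraMap s x (hs x)
  have hcompat : TopCat.Presheaf.IsCompatible X.presheaf W c := fun i j => by
    refine TopCat.Presheaf.section_ext X.sheaf (W i ⊓ W j) _ _ fun y hy => ?_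
    change X.presheaf.germ _ _ hy (X.presheaf.map _ (c i)) = X.presheaf.germ _ _ hy (X.presheaf.map _ (c j))
    simp only [TopCat.Presheaf.germ_res_apply]
    exact Mero.algebraMap_KStalk_injective y ((hc i ⟨y, hy.1⟩).symm.trans (hc j ⟨y, hy.2⟩))
  obtain ⟨r, hr, -⟩ := X.sheaf.existsUnique_gluing' W U (fun x => homOfLE (hW x))
    (fun y hy => Opens.mem_iSup.mpr ⟨⟨y, hy⟩, hxW _⟩) c hcompat
  refine ⟨r, kmod_ext fun x => ?_⟩
  rw [toK_apply_eq, hc x ⟨x.1, hxW x⟩, ← hr x]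
  exact congrArg _ (TopCat.Presheaf.germ_res_apply X.presheaf (homOfLE (hW x)) x.1 (hxW x) r).symm

end GrothLib.Mero
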