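import Groth.Agent.Lib.Mero.Regular
import Groth.Agent.Lib.InvExt.Gen
import Groth.Agent.Lib.QCoh.Affine

/-! # Denominators of locally given fractions -/

set_option autoImplicit false
universe u
open CategoryTheory AlgebraicGeometry TopologicalSpace Opposite

namespace GrothLib.Mero

open GrothLib.InvExt (mres fres mres_mres fres_fres mres_smul)

variable {X : Scheme.{u}}

/-- Regular germs act injectively on the stalks of `F`. -/
def TF (F : X.Modules) : Prop :=
  ∀ (x : X) (r : Mero.regStalk X x) (m : F.presheaf.stalk x), (r : X.presheaf.stalk x) • m = 0 → m = 0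

theorem TF.eq_zero {F : X.Modules} (hF : TF F) {W : X.Opens} {b : Γ(X, W)} (hb : b ∈ Mero.regSub X W)
    {m : Γ(F, W)} (h : b • m = 0) : m = 0 := by
  refine TopCat.Presheaf.section_ext ⟨F.presheaf, F.isSheaf⟩ W m 0 fun x hx => ?_
  show F.presheaf.germ W x hx m = F.presheaf.germ W x hx 0
  rw [map_zero]
  refine hF x ⟨_, Mero.germ_mem_regStalk ⟨x, hx⟩ hb⟩ _ ?_
  show X.presheaf.germ W x hx b • F.presheaf.germ W x hx m = 0
  rw [← GrothLib.WeakAss.germ_smul, h, map_zero]

/-- A fraction given on a finite affine cover of `U`. -/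
structure FracData (F : X.Modules) (U : X.Opens) where
  /-- The index type. -/
  ι : Type u
  [fin : Fintype ι]
  /-- The opens. -/
  D : ι → X.affineOpens
  le : ∀ j, (D j).1 ≤ U
  cover : U ≤ ⨆ j, (D j).1
  /-- Numerators. -/
  a : ∀ j, Γ(F, (D j).1)
  /-- Denominators. -/
  b : ∀ j, Γ(X, (D j).1)
  b_mem : ∀ j, b j ∈ Mero.regSub X (D j).1
  compat : ∀ (i j : ι) (W : X.Opens) (hi : W ≤ (D i).1) (hj : W ≤ (D j).1),
    fres X hi (b i) • mres F hj (a j) = fres X hj (b j) • mres F hi (a i)

namespace FracData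

variable {F : X.Modules} {U : X.Opens} (S : FracData F U)

attribute [local instance] FracData.fin

/-- `d` is a denominator: on each member of the cover `d a = b c`. -/
def IsDen (d : Γ(X, U)) : Prop :=
  ∀ j, ∃ c : Γ(F, (S.D j).1), fres X (S.le j) d • S.a j = S.b j • c

theorem exists_glue (hF : TF F) {d : Γ(X, U)} (hd : S.IsDen d) :
    ∃ m : Γ(F, U), ∀ j, fres X (S.le j) d • S.a j = S.b j • mres F (S.le j) m := by
  choose c hc using hd
  obtain ⟨m, hm, -⟩ := TopCat.Sheaf.existsUnique_gluing' ⟨F.presheaf, F.isSheaf⟩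
    (fun j => (S.D j).1) U (fun j => homOfLE (S.le j)) S.cover c (by
      intro i j
      have hi : (S.D i).1 ⊓ (S.D j).1 ≤ (S.D i).1 := inf_le_left
      have hj : (S.D i).1 ⊓ (S.D j).1 ≤ (S.D j).1 := inf_le_right
      have hci := congrArg (mres F hi) (hc i)
      have hcj := congrArg (mres F hj) (hc j)
      simp only [mres_smul, fres_fres] at hci hcj
      show mres F hi (c i) = mres F hj (c j)
      refine sub_eq_zero.1 (hF.eq_zero (Submonoid.mul_mem _ (Mero.regSub_res (homOfLE hi) (S.b_mem i))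
        (Mero.regSub_res (homOfLE hj) (S.b_mem j))) ?_)
      show (fres X hi (S.b i) * fres X hj (S.b j)) • (mres F hi (c i) - mres F hj (c j)) = 0
      rw [smul_sub, mul_comm, mul_smul, ← hci, mul_comm, mul_smul, ← hcj, smul_comm _ (fres X _ d),
        smul_comm _ (fres X _ d), S.compat i j _ hi hj, sub_self])
  refine ⟨m, fun j => ?_⟩
  have hmj : mres F (S.le j) m = c j := hm j
  rw [hmj]
  exact hc j

/-- Denominators on a basic open extend after multiplication with a power of the equation. -/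
theorem exists_den [F.IsQuasicoherent] (hU : IsAffineOpen U) (g : Γ(X, U)) (d' : Γ(X, X.basicOpen g))
    (t : Γ(F, X.basicOpen g))
    (ht : ∀ (j : S.ι) (W : X.Opens) (hj : W ≤ (S.D j).1) (hg : W ≤ X.basicOpen g),
      fres X hg d' • mres F hj (S.a j) = fres X hj (S.b j) • mres F hg t) :
    ∃ (N : ℕ) (d : Γ(X, U)), fres X (X.basicOpen_le g) d = fres X (X.basicOpen_le g) g ^ N * d' ∧ S.IsDen d := by
  classical
  haveI := hU.isLocalization_basicOpen g
  obtain ⟨⟨β, _, n, rfl⟩, hβ⟩ := IsLocalization.surj (Submonoid.powers g) d'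
  replace hβ : fres X (X.basicOpen_le g) β = fres X (X.basicOpen_le g) g ^ n * d' := by
    have hβ' : d' * algebraMap Γ(X, U) Γ(X, X.basicOpen g) (g ^ n) = algebraMap Γ(X, U) Γ(X, X.basicOpen g) β := hβ
    rw [map_pow, mul_comm] at hβ'
    exact hβ'.symm
  have key : ∀ j : S.ι, ∃ k : ℕ, ∃ c : Γ(F, (S.D j).1),
      fres X (S.le j) (g ^ k * β) • S.a j = S.b j • c := by
    intro j
    let gj := fres X (S.le j) g
    have hE : X.basicOpen gj ≤ (S.D j).1 := X.basicOpen_le _
    have hEg : X.basicOpen gj ≤ X.basicOpen g := by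
      show X.basicOpen (X.presheaf.map (homOfLE (S.le j)).op g) ≤ _
      rw [Scheme.basicOpen_res]; exact inf_le_right
    obtain ⟨hlift, hsep⟩ := QCoh.smulLift_and_smulSep_of_isAffineOpen (S.D j).2 F gj
    obtain ⟨k, c, hc⟩ := hlift (mres F hEg t)
    replace hc : mres F hE c = fres X hE gj ^ k • mres F hEg t := hc
    have hg' : fres X hE gj = fres X hEg (fres X (X.basicOpen_le g) g) := by
      simp only [gj, fres_fres]
    have hβ' : fres X hE (fres X (S.le j) β) = fres X hE gj ^ n * fres X hEg d' := by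
      rw [hg', fres_fres, ← fres_fres (X.basicOpen_le g) hEg, hβ, fres, map_mul, map_pow]
    have h0 : mres F hE ((gj ^ k * fres X (S.le j) β) • S.a j - S.b j • gj ^ n • c) = 0 := by
      rw [mres, map_sub, sub_eq_zero]
      show mres F hE _ = mres F hE _
      rw [mres_smul, mres_smul, mres_smul, hc]
      simp only [fres, map_mul, map_pow] at hβ' ⊢
      rw [hβ', ← mul_assoc, ← pow_add, mul_smul, ht j _ hE hEg]
      simp only [smul_smul]
      congr 1
      ring
    obtain ⟨l, hl⟩ := hsep _ h0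
    refine ⟨l + k, gj ^ (l + n) • c, ?_⟩
    rw [smul_sub, sub_eq_zero] at hl
    calc fres X (S.le j) (g ^ (l + k) * β) • S.a j
        = gj ^ l • (gj ^ k * fres X (S.le j) β) • S.a j := by
          rw [smul_smul, ← mul_assoc, ← pow_add, fres, map_mul, map_pow]
      _ = gj ^ l • S.b j • gj ^ n • c := hl
      _ = S.b j • gj ^ (l + n) • c := by rw [smul_comm, smul_smul (gj ^ l), ← pow_add]
  choose k c hc using key
  refine ⟨∑ j, k j + n, g ^ (∑ j, k j) * β, ?_, fun j => ?_⟩
  · rw [fres, map_mul, map_pow]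
    show _ * fres X (X.basicOpen_le g) β = _
    rw [hβ, ← mul_assoc, ← pow_add]
  · obtain ⟨e, he⟩ : ∃ e, ∑ i, k i = e + k j :=
      ⟨(∑ i, k i) - k j, (Nat.sub_add_cancel (Finset.single_le_sum (f := k) (fun i _ => Nat.zero_le _) (Finset.mem_univ j))).symm⟩
    refine ⟨fres X (S.le j) g ^ e • c j, ?_⟩
    rw [smul_comm, ← hc j, smul_smul, he, pow_add, mul_assoc, fres, map_mul, map_pow]

/-- At a weakly associated point some denominator is invertible. -/
theorem exists_den_at [F.IsQuasicoherent] (hU : IsAffineOpen U) {y : X} (hyU : y ∈ U) (hy : IsWA y) :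
    ∃ d : Γ(X, U), y ∈ X.basicOpen d ∧ S.IsDen d := by
  obtain ⟨i, hi⟩ := Opens.mem_iSup.1 (S.cover hyU)
  have hyb : y ∈ X.basicOpen (S.b i) := (regSub_iff (S.b i)).1 (S.b_mem i) y hi hy
  obtain ⟨g, hg, hyg⟩ := hU.exists_basicOpen_le (⟨y, hyb⟩ : X.basicOpen (S.b i)) hyU
  have hgi : X.basicOpen g ≤ (S.D i).1 := hg.trans (X.basicOpen_le _)
  have hu : IsUnit (fres X hgi (S.b i)) := by
    have := (RingedSpace.isUnit_res_basicOpen X.toRingedSpace (S.b i)).map
      (X.presheaf.map (homOfLE hg).op).hom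
    convert this using 1
    exact (fres_fres (X.basicOpen_le _) hg _).symm
  obtain ⟨N, d, hd, hden⟩ := S.exists_den hU g 1 (hu.unit⁻¹.1 • mres F hgi (S.a i)) fun j W hj hW => by
    rw [mres_smul, mres_mres, smul_comm, ← S.compat i j W (hW.trans hgi) hj, smul_smul, fres, map_one]
    congr 1
    show 1 = fres X hW hu.unit⁻¹.1 * fres X _ (S.b i)
    rw [← fres_fres hgi hW]
    show 1 = X.presheaf.map (homOfLE hW).op hu.unit⁻¹.1 * X.presheaf.map (homOfLE hW).op (fres X hgi (S.b i))
    rw [← map_mul, IsUnit.val_inv_mul, map_one]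
  refine ⟨d, ?_, hden⟩
  have h1 : IsUnit (fres X (X.basicOpen_le g) d) := by
    rw [hd, mul_one]
    exact (RingedSpace.isUnit_res_basicOpen X.toRingedSpace g).pow N
  have h2 := h1.map (X.presheaf.germ (X.basicOpen g) y hyg).hom
  erw [TopCat.Presheaf.germ_res_apply] at h2
  exact (mem_basicOpen_iff hyU d).2 h2

end FracData

end GrothLib.Mero
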