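import Groth.Prelude.Def_MeroDiv
import Groth.Agent.Lib.Mero.Denominator
import Groth.Agent.Lib.AssPts.Flat
import Groth.Agent.Lib.Ref1.Frame

/-! # Sections of the sheaves of meromorphic functions and sections as fractions -/

set_option autoImplicit false
universe u
open CategoryTheory AlgebraicGeometry TopologicalSpace Opposite

namespace GrothLib.Mero

open GrothLib.InvExt (mres fres mres_mres fres_fres mres_smul)
open GrothLib.WeakAss (toModSec)

variable {X : Scheme.{u}}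

theorem mkM_eq_iff {F : X.Modules} (hF : TF F) {x : X} (m m' : F.presheaf.stalk x) (s s' : Mero.regStalk X x) :
    LocalizedModule.mk m s = LocalizedModule.mk m' s' ↔
      (s' : X.presheaf.stalk x) • m = (s : X.presheaf.stalk x) • m' := by
  rw [LocalizedModule.mk_eq]
  refine ⟨fun ⟨u, hu⟩ => sub_eq_zero.1 (hF x u _ ?_), fun h => ⟨1, by simp only [Submonoid.smul_def] at *; rw [h]⟩⟩
  simp only [Submonoid.smul_def] at hu
  rw [smul_sub, hu, sub_self]

theorem mkK_eq_iff {x : X} (m m' : X.presheaf.stalk x) (s s' : Mero.regStalk X x) :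
    (LocalizedModule.mk m s : Mero.KStalk X x) = LocalizedModule.mk m' s' ↔
      (s' : X.presheaf.stalk x) * m = (s : X.presheaf.stalk x) * m' := by
  rw [LocalizedModule.mk_eq]
  refine ⟨fun ⟨u, hu⟩ => ?_, fun h => ⟨1, by simp only [Submonoid.smul_def, smul_eq_mul] at *; rw [h]⟩⟩
  simp only [Submonoid.smul_def, smul_eq_mul] at hu
  exact sub_eq_zero.1 (mem_nonZeroDivisors_iff_left.1 (Mero.regStalk_le_nonZeroDivisors x u.2) _
    (by rw [mul_sub, hu, sub_self]))

theorem tf_structureModule : TF (Coh.structureModule X) := fun x r m h => by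
  obtain ⟨e⟩ : Nonempty ((Coh.structureModule X).presheaf.stalk x ≃ₗ[X.presheaf.stalk x] X.presheaf.stalk x) :=
    (GrothLib.AssPts.exists_stalk_unit_equiv x).map LinearEquiv.symm
  refine e.injective ?_
  rw [map_zero]
  refine mem_nonZeroDivisors_iff_left.1 (Mero.regStalk_le_nonZeroDivisors x r.2) _ ?_
  rw [← smul_eq_mul, ← map_smul, h, map_zero]

theorem tf_of_gen {F : X.Modules} (hgen : ∀ x : X, ∃ (V : X.Opens) (e : Γ(F, V)), x ∈ V ∧ GrothLib.InvExt.IsGen F V e) :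
    TF F := fun x r m h => by
  obtain ⟨V, e, hxV, he⟩ := hgen x
  have hb := GrothLib.Ref1.stalk_of_isFrame ((GrothLib.InvExt.isGen_iff_isFrame (fun _ : Fin 1 => e)).mpr he) x hxV
  obtain ⟨c, rfl⟩ := hb.2 m
  have h0 := hb.1 ((map_smul _ (r : X.presheaf.stalk x) c).trans (h.trans (map_zero _).symm))
  refine (congrArg _ (funext fun i => ?_)).trans (map_zero _)
  exact mem_nonZeroDivisors_iff_left.1 (Mero.regStalk_le_nonZeroDivisors x r.2) _ (congrFun h0 i)

theorem tf_of_isInvertible {F : X.Modules} (hF : PicF.IsInvertible F) : TF F :=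
  tf_of_gen fun x => GrothLib.InvExt.exists_gen_nhd hF x

/-- A section of `K_X` on an affine open as a fraction on a finite cover. -/
theorem exists_fracData_kmod (U : X.affineOpens) (s : Γ(Mero.kmod X, U.1)) :
    ∃ S : FracData (Coh.structureModule X) U.1, ∀ (j : S.ι) (y : X) (hy : y ∈ (S.D j).1) (a : Γ(X, (S.D j).1)),
      toModSec a = S.a j →
      s.1 ⟨y, S.le j hy⟩ = LocalizedModule.mk (X.presheaf.germ (S.D j).1 y hy a)
        (Mero.regGerm ⟨y, hy⟩ ⟨S.b j, S.b_mem j⟩) := by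
  have hloc : ∀ x : U.1, ∃ (D : X.affineOpens) (_ : x.1 ∈ D.1) (hDU : D.1 ≤ U.1) (a : Γ(X, D.1)) (b : Mero.regSub X D.1),
      ∀ y : D.1, s.1 ⟨y.1, hDU y.2⟩ = LocalizedModule.mk (X.presheaf.germ D.1 y.1 y.2 a) (Mero.regGerm y b) := by
    intro x
    obtain ⟨V, hxV, i, a, b, hab⟩ := s.2 x
    obtain ⟨D, hxD, hD⟩ := GrothLib.BlowUp.exists_affine_mem_le (show x.1 ∈ V from hxV)
    refine ⟨D, hxD, hD.trans i.le, X.presheaf.map (homOfLE hD).op a,
      ⟨_, Mero.regSub_res (homOfLE hD) b.2⟩, fun y => ?_⟩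
    exact (hab ⟨y.1, hD y.2⟩).trans (Mero.mk_congr (TopCat.Presheaf.germ_res_apply X.presheaf _ _ _ _).symm
      (TopCat.Presheaf.germ_res_apply X.presheaf _ _ _ _).symm)
  choose D hxD hDU a b hab using hloc
  obtain ⟨t, ht⟩ := U.2.isCompact.elim_finite_subcover (fun x : U.1 => ((D x).1 : Set X)) (fun x => (D x).1.2)
    (fun y hy => Set.mem_iUnion.2 ⟨⟨y, hy⟩, hxD ⟨y, hy⟩⟩)
  refine ⟨{ ι := t, D := fun j => D j.1, le := fun j => hDU j.1, cover := fun y hy => ?_,
            a := fun j => toModSec (a j.1), b := fun j => (b j.1).1, b_mem := fun j => (b j.1).2, compat := ?_ },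
    fun j y hy a' ha' => ?_⟩
  · obtain ⟨x, hx, hyx⟩ := Set.mem_iUnion₂.1 (ht hy)
    exact Opens.mem_iSup.2 ⟨⟨x, hx⟩, hyx⟩
  · intro i j W hi hj
    show fres X hi (b i.1).1 * fres X hj (a j.1) = fres X hj (b j.1).1 * fres X hi (a i.1)
    refine TopCat.Presheaf.section_ext X.sheaf W _ _ fun y hy => ?_
    show X.presheaf.germ W y hy _ = X.presheaf.germ W y hy _
    simp only [map_mul, fres, TopCat.Presheaf.germ_res_apply]
    have := (hab i.1 ⟨y, hi hy⟩).symm.trans (hab j.1 ⟨y, hj hy⟩)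
    exact ((mkK_eq_iff _ _ _ _).1 this).symm
  · obtain rfl : a' = a j.1 := ha'
    exact hab j.1 ⟨y, hy⟩

theorem toK_injective (U : X.Opens) : Function.Injective (Mero.toK X U) := fun a a' h => by
  refine TopCat.Presheaf.section_ext X.sheaf U _ _ fun y hy => ?_
  have := (mkK_eq_iff _ _ _ _).1 (congrArg (fun f : Γ(Mero.kmod X, U) => f.1 ⟨y, hy⟩) h)
  have h2 : X.presheaf.germ U y hy a = X.presheaf.germ U y hy a' := by simpa using this
  exact h2

theorem isUnit_toK (U : X.Opens) {d : Γ(X, U)} (hd : d ∈ Mero.regSub X U) : IsUnit (Mero.toK X U d) := by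
  let v : Γ(Mero.kmod X, U) := ⟨fun x => LocalizedModule.mk 1 (Mero.regGerm x ⟨d, hd⟩),
    fun x => ⟨U, x.2, 𝟙 _, 1, ⟨d, hd⟩, fun y => Mero.mk_congr (map_one (X.presheaf.germ U y.1 y.2).hom).symm rfl⟩⟩
  refine IsUnit.of_mul_eq_one (a := Mero.toK X U d) v (Subtype.ext (funext fun x => ?_))
  show (LocalizedModule.mk (X.presheaf.germ U x.1 x.2 d) 1 : Mero.KStalk X x.1) * LocalizedModule.mk 1 _ = 1
  refine LocalizedModule.mk_mul_mk.trans ((Mero.mk_congr (mul_one _) ?_).trans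
    (Mero.mk_self_eq_one (Mero.regGerm x ⟨d, hd⟩)))
  rw [one_mul]

/-- `K_X(U)` is the total ring of fractions on affines. -/
theorem isLocalization_kmod (h : LocFiniteWA X) (U : X.affineOpens) :
    @IsLocalization Γ(X, U.1) _ (nonZeroDivisors Γ(X, U.1)) Γ(Mero.kmod X, U.1) _ (Mero.toK X U.1).toAlgebra := by
  classical
  letI := (Mero.toK X U.1).toAlgebra
  rw [isLocalization_iff]
  refine ⟨fun d => isUnit_toK U.1 (by rw [regSub_eq_nonZeroDivisors]; exact d.2), fun s => ?_,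
    fun {a a'} he => ⟨1, by rw [toK_injective U.1 he]⟩⟩
  obtain ⟨S, hS⟩ := exists_fracData_kmod U s
  let J : Ideal Γ(X, U.1) :=
    { carrier := {d | ∃ a, Mero.toK X U.1 d * s = Mero.toK X U.1 a}
      zero_mem' := ⟨0, by rw [map_zero, zero_mul]⟩
      add_mem' := by rintro d d' ⟨a, ha⟩ ⟨a', ha'⟩; exact ⟨a + a', by rw [map_add, map_add, add_mul, ha, ha']⟩
      smul_mem' := by rintro c d ⟨a, ha⟩; exact ⟨c * a, by rw [smul_eq_mul, map_mul, map_mul, mul_assoc, ha]⟩ }
  have hden : ∀ d, S.IsDen d → d ∈ J := by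
    intro d hd
    obtain ⟨m, hm⟩ := S.exists_glue tf_structureModule hd
    obtain ⟨m, rfl⟩ : ∃ m' : Γ(X, U.1), toModSec m' = m := ⟨m, rfl⟩
    refine ⟨m, Subtype.ext (funext fun y => ?_)⟩
    obtain ⟨j, hj⟩ := Opens.mem_iSup.1 (S.cover y.2)
    obtain ⟨aj, haj⟩ : ∃ a' : Γ(X, (S.D j).1), toModSec a' = S.a j := ⟨S.a j, rfl⟩
    show (LocalizedModule.mk (X.presheaf.germ U.1 y.1 y.2 d) 1 : Mero.KStalk X y.1) * s.1 ⟨y.1, S.le j hj⟩ =
      LocalizedModule.mk (X.presheaf.germ U.1 y.1 y.2 m) 1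
    rw [hS j y.1 hj aj haj]
    refine LocalizedModule.mk_mul_mk.trans ((mkK_eq_iff _ _ _ _).2 ?_)
    have h1 : fres X (S.le j) d * aj = S.b j * fres X (S.le j) m := by
      have := hm j
      rw [← haj] at this
      exact this
    have h2 := congrArg (X.presheaf.germ (S.D j).1 y.1 hj) h1
    simp only [map_mul, fres, TopCat.Presheaf.germ_res_apply] at h2
    simpa using h2
  obtain ⟨d, hdJ, hd⟩ : ∃ d ∈ J, d ∈ Mero.regSub X U.1 := by
    by_contra hno
    push Not at hno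
    let T := {y : X | IsWA y} ∩ (U.1 : Set X)
    let P : X → Ideal Γ(X, U.1) := fun y => if hy : y ∈ U.1 then GrothLib.WeakAss.primeAt y hy else ⊥
    have hsub : (J : Set Γ(X, U.1)) ⊆ ⋃ y ∈ T, (P y : Set Γ(X, U.1)) := by
      intro d hd
      have := hno d hd
      rw [regSub_iff] at this
      push Not at this
      obtain ⟨y, hyU, hy, hyd⟩ := this
      refine Set.mem_iUnion₂.2 ⟨y, ⟨hy, hyU⟩, ?_⟩
      rw [show P y = GrothLib.WeakAss.primeAt y hyU from dif_pos hyU, SetLike.mem_coe]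
      by_contra hmem
      exact hyd (GrothLib.WeakAss.notMem_primeAt_iff.1 hmem)
    rcases T.eq_empty_or_nonempty with hT | ⟨y₀, hy₀⟩
    · exact absurd (hsub J.zero_mem) (by simp [hT])
    obtain ⟨y, hyT, hJy⟩ := (Ideal.subset_union_prime_finite (h U) y₀ y₀ fun y hy _ _ => by
      rw [show P y = GrothLib.WeakAss.primeAt y hy.2 from dif_pos hy.2]; infer_instance).1 hsub
    obtain ⟨d, hyd, hdden⟩ := S.exists_den_at U.2 hyT.2 hyT.1
    have := hJy (hden d hdden)
    rw [show P y = GrothLib.WeakAss.primeAt y hyT.2 from dif_pos hyT.2] at this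
    exact (GrothLib.WeakAss.notMem_primeAt_iff.2 hyd) this
  obtain ⟨a, ha⟩ := hdJ
  rw [regSub_eq_nonZeroDivisors] at hd
  exact ⟨⟨a, d, hd⟩, (mul_comm _ _).trans ha⟩

end GrothLib.Mero
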