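import Groth.Agent.Lib.Mero.MerMod

/-! # Regular meromorphic sections of invertible modules -/

set_option autoImplicit false
universe u
open CategoryTheory AlgebraicGeometry TopologicalSpace Opposite

namespace GrothLib.Mero

open GrothLib.InvExt (mres fres mres_mres fres_fres mres_smul IsGen)

variable {X : Scheme.{u}}

/-- A function vanishing near every weakly associated point vanishes. -/
theorem eq_zero_of_vanish {W : X.Opens} (c : Γ(X, W))
    (h : ∀ y : X, y ∈ W → IsWA y → ∃ (O : X.Opens) (hO : O ≤ W), y ∈ O ∧ fres X hO c = 0) : c = 0 := by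
  have : GrothLib.WeakAss.toModSec c = 0 := by
    refine GrothLib.WeakAss.eq_zero_of_germ (F := Coh.structureModule X) _ fun y hy hwa => ?_
    obtain ⟨O, hO, hyO, hz⟩ := h y hy hwa
    rw [← germ_mres (Coh.structureModule X) hO hyO]
    exact (congrArg _ (show mres (Coh.structureModule X) hO (GrothLib.WeakAss.toModSec c) = 0 from hz)).trans (map_zero _)
  exact this

/-- A nonempty open has a weakly associated point. -/
theorem exists_isWA {W : X.Opens} {x : X} (hx : x ∈ W) : ∃ y ∈ W, IsWA y := by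
  by_contra! h
  have h1 : (1 : Γ(X, W)) = 0 := eq_zero_of_vanish _ fun y hy hwa => absurd hwa (h y hy)
  have := congrArg (X.presheaf.germ W x hx) h1
  simp at this

variable {L : X.Modules}

/-- A trivialisation on an open containing all weakly associated points. -/
theorem exists_gen_open (h : LocFiniteWA X) (hmax : ∀ a b : X, IsWA a → IsWA b → b ⤳ a → b = a)
    (hL : PicF.IsInvertible L) : ∃ (U : X.Opens) (e : Γ(L, U)), IsGen L U e ∧ ∀ y : X, IsWA y → y ∈ U := by
  classical
  have hloc : ∀ η : {y : X // IsWA y}, ∃ (O : X.Opens) (e : Γ(L, O)), η.1 ∈ O ∧ IsGen L O e ∧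
      ∀ y ∈ O, IsWA y → y = η.1 := by
    intro η
    obtain ⟨V₀, e, hη, he⟩ := GrothLib.InvExt.exists_gen_nhd hL η.1
    obtain ⟨V, hηV, hV⟩ := GrothLib.BlowUp.exists_affine_mem_le hη
    let T := ({y : X | IsWA y} ∩ (V.1 : Set X)) \ {η.1}
    have hC : IsClosed (⋃ y ∈ T, closure {y}) :=
      Set.Finite.isClosed_biUnion ((h V).subset fun y hy => hy.1) fun y _ => isClosed_closure
    let O : X.Opens := V.1 ⊓ ⟨(⋃ y ∈ T, closure {y})ᶜ, hC.isOpen_compl⟩
    have hO : O ≤ V₀ := inf_le_left.trans hV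
    refine ⟨O, mres L hO e, ⟨hηV, fun hmem => ?_⟩, he.restrict hO, fun y hy hwa => ?_⟩
    · obtain ⟨y, hy, hyη⟩ := Set.mem_iUnion₂.1 hmem
      exact hy.2 (hmax η.1 y η.2 hy.1.1 (specializes_iff_mem_closure.2 hyη))
    · by_contra hne
      exact hy.2 (Set.mem_iUnion₂.2 ⟨y, ⟨⟨hwa, hy.1⟩, hne⟩, subset_closure rfl⟩)
  choose O e hη he honly using hloc
  obtain ⟨s, hs⟩ := GrothLib.InvExt.exists_gen_of_glue O e he (fun i j => by
    by_cases hij : i = j
    · subst hij; rfl
    refine TopCat.Presheaf.section_ext ⟨L.presheaf, L.isSheaf⟩ _ _ _ fun y hy => ?_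
    obtain ⟨z, hz, hwa⟩ := exists_isWA hy
    exact absurd (Subtype.ext ((honly i z hz.1 hwa).symm.trans (honly j z hz.2 hwa))) hij)
    (⨆ i, O i) (le_iSup O) le_rfl
  exact ⟨_, s, hs, fun y hy => Opens.mem_iSup.2 ⟨⟨y, hy⟩, hη _⟩⟩

/-- A regular function on an affine open whose basic open is inside a given open containing all weakly
associated points. -/
theorem exists_regular_basicOpen (h : LocFiniteWA X) (V : X.affineOpens) (U : X.Opens)
    (hU : ∀ y : X, y ∈ V.1 → IsWA y → y ∈ U) :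
    ∃ b : Γ(X, V.1), b ∈ Mero.regSub X V.1 ∧ X.basicOpen b ≤ U := by
  classical
  let J : Ideal Γ(X, V.1) :=
    { carrier := {b | X.basicOpen b ≤ U}
      zero_mem' := by simp
      add_mem' := fun {a b} ha hb => (Scheme.basicOpen_add_le X a b).trans (sup_le ha hb)
      smul_mem' := fun c b hb => by
        show X.basicOpen (c * b) ≤ U
        rw [Scheme.basicOpen_mul]; exact inf_le_right.trans hb }
  by_contra! hno
  let T := {y : X | IsWA y} ∩ (V.1 : Set X)
  let P : X → Ideal Γ(X, V.1) := fun y => if hy : y ∈ V.1 then GrothLib.WeakAss.primeAt y hy else ⊥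
  have hsub : (J : Set Γ(X, V.1)) ⊆ ⋃ y ∈ T, (P y : Set Γ(X, V.1)) := by
    intro b hb
    have hb' : b ∉ Mero.regSub X V.1 := fun hr => hno b hr hb
    rw [regSub_iff] at hb'
    push Not at hb'
    obtain ⟨y, hyV, hy, hyb⟩ := hb'
    refine Set.mem_iUnion₂.2 ⟨y, ⟨hy, hyV⟩, ?_⟩
    rw [show P y = GrothLib.WeakAss.primeAt y hyV from dif_pos hyV, SetLike.mem_coe]
    by_contra hmem
    exact hyb (GrothLib.WeakAss.notMem_primeAt_iff.1 hmem)
  rcases T.eq_empty_or_nonempty with hT | ⟨y₀, hy₀⟩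
  · exact absurd (hsub J.zero_mem) (by simp [hT])
  obtain ⟨y, hyT, hJy⟩ := (Ideal.subset_union_prime_finite (h V) y₀ y₀ fun y hy _ _ => by
    rw [show P y = GrothLib.WeakAss.primeAt y hy.2 from dif_pos hy.2]; infer_instance).1 hsub
  obtain ⟨g, hg, hyg⟩ := V.2.exists_basicOpen_le (⟨y, hU y hyT.2 hyT.1⟩ : U) hyT.2
  have := hJy (show g ∈ J from hg)
  rw [show P y = GrothLib.WeakAss.primeAt y hyT.2 from dif_pos hyT.2] at this
  exact GrothLib.WeakAss.notMem_primeAt_iff.2 hyg this

theorem hasRegularMero (h : LocFiniteWA X) (hmax : ∀ a b : X, IsWA a → IsWA b → b ⤳ a → b = a)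
    (hL : PicF.IsInvertible L) : Mero.HasRegularMero L := by
  obtain ⟨U, e, he, hU⟩ := exists_gen_open h hmax hL
  have hTF := tf_of_isInvertible hL
  have hloc : ∀ x : X, ∃ (V : X.Opens) (_ : x ∈ V) (eV : Γ(L, V)) (_ : IsGen L V eV) (β : Mero.regSub X V)
      (B : Mero.regSub X V) (O : X.Opens) (hOV : O ≤ V) (hOU : O ≤ U),
      (∀ y ∈ V, IsWA y → y ∈ O) ∧ mres L hOV (β.1 • eV) = fres X hOV B.1 • mres L hOU e := by
    intro x
    obtain ⟨V₀, e₀, hx, he₀⟩ := GrothLib.InvExt.exists_gen_nhd hL x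
    obtain ⟨V, hxV, hV⟩ := GrothLib.BlowUp.exists_affine_mem_le hx
    obtain ⟨b, hb, hbU⟩ := exists_regular_basicOpen h V U fun y _ hy => hU y hy
    let eV := mres L hV e₀
    have heV : IsGen L V.1 eV := he₀.restrict hV
    have hD : X.basicOpen b ≤ V.1 := X.basicOpen_le b
    obtain ⟨c, hc⟩ := heV.exists_smul_eq hD (mres L hbU e)
    obtain ⟨c', hc'⟩ := he.exists_smul_eq hbU (mres L hD eV)
    have hcu : IsUnit c := IsUnit.of_mul_eq_one (a := c) c' (heV.smul_left_injective hD (by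
      rw [mul_comm, mul_smul, ← hc, one_smul, ← hc']))
    haveI := V.2.isLocalization_basicOpen b
    obtain ⟨⟨β, _, n, rfl⟩, hβ⟩ := IsLocalization.surj (Submonoid.powers b) c
    have hβ' : fres X hD β = fres X hD b ^ n * c := by
      have h1 : c * algebraMap Γ(X, V.1) Γ(X, X.basicOpen b) (b ^ n) = algebraMap Γ(X, V.1) Γ(X, X.basicOpen b) β := hβ
      rw [map_pow, mul_comm] at h1
      exact h1.symm
    have hwa : ∀ y ∈ V.1, IsWA y → y ∈ X.basicOpen b := (regSub_iff b).1 hb
    have hβreg : β ∈ Mero.regSub X V.1 := by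
      rw [regSub_iff]
      intro y hy hyw
      have hyb := hwa y hy hyw
      rw [mem_basicOpen_iff hy]
      have h2 := (((RingedSpace.isUnit_res_basicOpen X.toRingedSpace b).pow n).mul hcu).map
        (X.presheaf.germ (X.basicOpen b) y hyb).hom
      erw [← hβ'] at h2
      erw [TopCat.Presheaf.germ_res_apply] at h2
      exact h2
    refine ⟨V.1, hxV, eV, heV, ⟨β, hβreg⟩, ⟨b ^ n, pow_mem hb n⟩, X.basicOpen b, hD, hbU, hwa, ?_⟩
    rw [mres_smul, hc, hβ', smul_smul]
    simp only [fres, map_pow]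
  choose V hxV eV heV β B O hOV hOU hwa hrel using hloc
  have hagree : ∀ (i j y : X) (hi : y ∈ V i) (hj : y ∈ V j),
      (LocalizedModule.mk (L.presheaf.germ (V i) y hi ((β i).1 • eV i)) (Mero.regGerm ⟨y, hi⟩ (B i)) : Mero.MStalk L y) =
        LocalizedModule.mk (L.presheaf.germ (V j) y hj ((β j).1 • eV j)) (Mero.regGerm ⟨y, hj⟩ (B j)) := by
    intro i j y hi hj
    let W := V i ⊓ V j
    let m : Γ(L, W) := fres X (inf_le_right : W ≤ V j) (B j).1 • mres L (inf_le_left : W ≤ V i) ((β i).1 • eV i) -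
      fres X (inf_le_left : W ≤ V i) (B i).1 • mres L (inf_le_right : W ≤ V j) ((β j).1 • eV j)
    have hm : m = 0 := by
      obtain ⟨c, hc⟩ := (heV i).exists_smul_eq (inf_le_left : W ≤ V i) m
      rw [hc, eq_zero_of_vanish c fun z hz hzw => ?_, zero_smul]
      have hO : O i ⊓ O j ≤ W := inf_le_inf (hOV i) (hOV j)
      refine ⟨O i ⊓ O j, hO, ⟨hwa i z hz.1 hzw, hwa j z hz.2 hzw⟩,
        (heV i).smul_left_injective (hO.trans inf_le_left) ?_⟩
      have h1 := congrArg (mres L (inf_le_left : O i ⊓ O j ≤ O i)) (hrel i)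
      have h2 := congrArg (mres L (inf_le_right : O i ⊓ O j ≤ O j)) (hrel j)
      simp only [mres_smul, mres_mres, fres_fres] at h1 h2
      have h3 := congrArg (mres L hO) hc
      simp only [m, mres, map_sub] at h3
      rw [show ∀ (A : X.Opens) (hA : A ≤ W) (t : Γ(L, W)), L.presheaf.map (homOfLE hA).op t = mres L hA t from fun _ _ _ => rfl,
        show ∀ (A : X.Opens) (hA : A ≤ W) (t : Γ(L, W)), L.presheaf.map (homOfLE hA).op t = mres L hA t from fun _ _ _ => rfl] at h3
      simp only [mres_smul, mres_mres, fres_fres] at h3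
      rw [zero_smul, ← h3, h1, h2, smul_comm, sub_self]
    refine (mkM_eq_iff hTF _ _ _ _).2 (sub_eq_zero.1 ?_)
    have := congrArg (L.presheaf.germ W y ⟨hi, hj⟩) hm
    simp only [m, map_sub, map_zero] at this
    rw [GrothLib.WeakAss.germ_smul, GrothLib.WeakAss.germ_smul] at this
    simp only [germ_mres, fres, TopCat.Presheaf.germ_res_apply] at this
    exact this
  refine ⟨⟨fun y => LocalizedModule.mk (L.presheaf.germ (V y.1) y.1 (hxV y.1) ((β y.1).1 • eV y.1))
      (Mero.regGerm ⟨y.1, hxV y.1⟩ (B y.1)),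
    fun x => ⟨V x.1, hxV x.1, homOfLE le_top, (β x.1).1 • eV x.1, B x.1,
      fun z => hagree z.1 x.1 z.1 (hxV z.1) z.2⟩⟩, fun x q hq => ?_⟩
  induction q using LocalizedModule.induction_on with
  | h r σ =>
    rw [← LocalizedModule.zero_mk (1 : Mero.regStalk X x)]
    refine (mkK_eq_iff _ _ _ _).2 ?_
    have h0 : LocalizedModule.mk (r • L.presheaf.germ (V x) x (hxV x) ((β x).1 • eV x))
        (σ * Mero.regGerm ⟨x, hxV x⟩ (B x)) = (0 : Mero.MStalk L x) :=
      (LocalizedModule.mk_smul_mk r _ σ _).symm.trans hq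
    rw [← LocalizedModule.zero_mk (1 : Mero.regStalk X x), mkM_eq_iff hTF] at h0
    simp only [OneMemClass.coe_one, one_smul, smul_zero, GrothLib.WeakAss.germ_smul, smul_smul] at h0
    have hb := GrothLib.Ref1.stalk_of_isFrame
      ((GrothLib.InvExt.isGen_iff_isFrame (fun _ : Fin 1 => eV x)).mpr (heV x)) x (hxV x)
    have h1 : (fun _ : Fin 1 => r * X.presheaf.germ (V x) x (hxV x) (β x).1) = 0 := hb.1 (by
      rw [map_zero, GrothLib.Ref1.stalkComb, Fintype.linearCombination_apply]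
      simpa using h0)
    have h2 := congrFun h1 0
    simp only [OneMemClass.coe_one, one_mul, mul_zero]
    exact (mem_nonZeroDivisors_iff_right.1 ((β x).2 ⟨x, hxV x⟩) _ h2)

end GrothLib.Mero
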