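import Groth.Agent.Lib.Mero.DivMod
import Groth.Agent.Lib.Mero.Exists
import Groth.Agent.Lib.InvExt.FiniteFibre

/-! # Existence of regular meromorphic sections, further criteria -/

set_option autoImplicit false
universe u
open CategoryTheory AlgebraicGeometry TopologicalSpace Opposite

namespace GrothLib.Mero

open GrothLib.InvExt (mres fres mres_mres fres_fres mres_smul IsGen)

variable {X : Scheme.{u}} {L : X.Modules}

/-- A generator on an open containing all weakly associated points gives a regular meromorphic section. -/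
theorem hasRegularMero_of_gen_open (h : LocFiniteWA X) (hL : PicF.IsInvertible L) (U : X.Opens) (e : Γ(L, U))
    (he : IsGen L U e) (hU : ∀ y : X, IsWA y → y ∈ U) : Mero.HasRegularMero L := by
  have hTF := tf_of_isInvertible hL
  have hloc : ∀ x : X, ∃ (V : X.Opens) (_ : x ∈ V) (eV : Γ(L, V)) (_ : IsGen L V eV) (β : Mero.regSub X V)
      (B : Mero.regSub X V) (O : X.Opens) (hOV : O ≤ V) (hOU : O ≤ U),
      (∀ y ∈ V, IsWA y → y ∈ O) ∧ mres L hOV (β.1 • eV) = fres X hOV B.1 • mres L hOU e := by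
    intro x
    obtain ⟨V₀, e₀, hx, he₀⟩ := GrothLib.InvExt.exists_gen_nhd hL x
    obtain ⟨V, hxV, hV⟩ := GrothLib.BlowUp.exists_affine_mem_le hx
    obtain ⟨b, hb, hbU⟩ := exists_regular_basicOpen h V U fun y _ hy => hU y hy
    let eV := mres L hV e₀
    have heV : IsGen L V.1 eV := he₀.restrict hV
    have hD : X.basicOpen b ≤ V.1 := X.basicOpen_le b
    obtain ⟨c, hc⟩ := heV.exists_smul_eq hD (mres L hbU e)
    obtain ⟨c', hc'⟩ := he.exists_smul_eq hbU (mres L hD eV)
    have hcu : IsUnit c := IsUnit.of_mul_eq_one (a := c) c' (heV.smul_left_injective hD (by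
      rw [mul_comm, mul_smul, ← hc, one_smul, ← hc']))
    haveI := V.2.isLocalization_basicOpen b
    obtain ⟨⟨β, _, n, rfl⟩, hβ⟩ := IsLocalization.surj (Submonoid.powers b) c
    have hβ' : fres X hD β = fres X hD b ^ n * c := by
      have h1 : c * algebraMap Γ(X, V.1) Γ(X, X.basicOpen b) (b ^ n) = algebraMap Γ(X, V.1) Γ(X, X.basicOpen b) β := hβ
      rw [map_pow, mul_comm] at h1
      exact h1.symm
    have hwa : ∀ y ∈ V.1, IsWA y → y ∈ X.basicOpen b := (regSub_iff b).1 hb
    have hβreg : β ∈ Mero.regSub X V.1 := by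
      rw [regSub_iff]
      intro y hy hyw
      have hyb := hwa y hy hyw
      rw [mem_basicOpen_iff hy]
      have h2 := (((RingedSpace.isUnit_res_basicOpen X.toRingedSpace b).pow n).mul hcu).map
        (X.presheaf.germ (X.basicOpen b) y hyb).hom
      erw [← hβ'] at h2
      erw [TopCat.Presheaf.germ_res_apply] at h2
      exact h2
    refine ⟨V.1, hxV, eV, heV, ⟨β, hβreg⟩, ⟨b ^ n, pow_mem hb n⟩, X.basicOpen b, hD, hbU, hwa, ?_⟩
    rw [mres_smul, hc, hβ', smul_smul]
    simp only [fres, map_pow]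
  choose V hxV eV heV β B O hOV hOU hwa hrel using hloc
  have hagree : ∀ (i j y : X) (hi : y ∈ V i) (hj : y ∈ V j),
      (LocalizedModule.mk (L.presheaf.germ (V i) y hi ((β i).1 • eV i)) (Mero.regGerm ⟨y, hi⟩ (B i)) : Mero.MStalk L y) =
        LocalizedModule.mk (L.presheaf.germ (V j) y hj ((β j).1 • eV j)) (Mero.regGerm ⟨y, hj⟩ (B j)) := by
    intro i j y hi hj
    let W := V i ⊓ V j
    let m : Γ(L, W) := fres X (inf_le_right : W ≤ V j) (B j).1 • mres L (inf_le_left : W ≤ V i) ((β i).1 • eV i) -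
      fres X (inf_le_left : W ≤ V i) (B i).1 • mres L (inf_le_right : W ≤ V j) ((β j).1 • eV j)
    have hm : m = 0 := by
      obtain ⟨c, hc⟩ := (heV i).exists_smul_eq (inf_le_left : W ≤ V i) m
      rw [hc, eq_zero_of_vanish c fun z hz hzw => ?_, zero_smul]
      have hO : O i ⊓ O j ≤ W := inf_le_inf (hOV i) (hOV j)
      refine ⟨O i ⊓ O j, hO, ⟨hwa i z hz.1 hzw, hwa j z hz.2 hzw⟩,
        (heV i).smul_left_injective (hO.trans inf_le_left) ?_⟩
      have h1 := congrArg (mres L (inf_le_left : O i ⊓ O j ≤ O i)) (hrel i)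
      have h2 := congrArg (mres L (inf_le_right : O i ⊓ O j ≤ O j)) (hrel j)
      simp only [mres_smul, mres_mres, fres_fres] at h1 h2
      have h3 := congrArg (mres L hO) hc
      simp only [m, mres, map_sub] at h3
      rw [show ∀ (A : X.Opens) (hA : A ≤ W) (t : Γ(L, W)), L.presheaf.map (homOfLE hA).op t = mres L hA t from fun _ _ _ => rfl,
        show ∀ (A : X.Opens) (hA : A ≤ W) (t : Γ(L, W)), L.presheaf.map (homOfLE hA).op t = mres L hA t from fun _ _ _ => rfl] at h3
      simp only [mres_smul, mres_mres, fres_fres] at h3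
      rw [zero_smul, ← h3, h1, h2, smul_comm, sub_self]
    refine (mkM_eq_iff hTF _ _ _ _).2 (sub_eq_zero.1 ?_)
    have := congrArg (L.presheaf.germ W y ⟨hi, hj⟩) hm
    simp only [m, map_sub, map_zero] at this
    rw [GrothLib.WeakAss.germ_smul, GrothLib.WeakAss.germ_smul] at this
    simp only [germ_mres, fres, TopCat.Presheaf.germ_res_apply] at this
    exact this
  refine ⟨⟨fun y => LocalizedModule.mk (L.presheaf.germ (V y.1) y.1 (hxV y.1) ((β y.1).1 • eV y.1))
      (Mero.regGerm ⟨y.1, hxV y.1⟩ (B y.1)),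
    fun x => ⟨V x.1, hxV x.1, homOfLE le_top, (β x.1).1 • eV x.1, B x.1,
      fun z => hagree z.1 x.1 z.1 (hxV z.1) z.2⟩⟩, fun x q hq => ?_⟩
  induction q using LocalizedModule.induction_on with
  | h r σ =>
    rw [← LocalizedModule.zero_mk (1 : Mero.regStalk X x)]
    refine (mkK_eq_iff _ _ _ _).2 ?_
    have h0 : LocalizedModule.mk (r • L.presheaf.germ (V x) x (hxV x) ((β x).1 • eV x))
        (σ * Mero.regGerm ⟨x, hxV x⟩ (B x)) = (0 : Mero.MStalk L x) :=
      (LocalizedModule.mk_smul_mk r _ σ _).symm.trans hq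
    rw [← LocalizedModule.zero_mk (1 : Mero.regStalk X x), mkM_eq_iff hTF] at h0
    simp only [OneMemClass.coe_one, one_smul, smul_zero, GrothLib.WeakAss.germ_smul, smul_smul] at h0
    have hb := GrothLib.Ref1.stalk_of_isFrame
      ((GrothLib.InvExt.isGen_iff_isFrame (fun _ : Fin 1 => eV x)).mpr (heV x)) x (hxV x)
    have h1 : (fun _ : Fin 1 => r * X.presheaf.germ (V x) x (hxV x) (β x).1) = 0 := hb.1 (by
      rw [map_zero, GrothLib.Ref1.stalkComb, Fintype.linearCombination_apply]
      simpa using h0)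
    have h2 := congrFun h1 0
    simp only [OneMemClass.coe_one, one_mul, mul_zero]
    exact (mem_nonZeroDivisors_iff_right.1 ((β x).2 ⟨x, hxV x⟩) _ h2)

/-- Points of a locally finite set of components. -/
theorem locFiniteWA_of_reduced [IsReduced X]
    (hX : ∀ x : X, ∃ W : X.Opens, x ∈ W ∧
      {Z : Set X | Z ∈ irreducibleComponents X ∧ (Z ∩ (W : Set X)).Nonempty}.Finite) : LocFiniteWA X := by
  intro V
  choose W hxW hfin using hX
  obtain ⟨t, ht⟩ := V.2.isCompact.elim_finite_subcover (fun x : X => (W x : Set X)) (fun x => (W x).2)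
    (fun y _ => Set.mem_iUnion.2 ⟨y, hxW y⟩)
  refine Set.Finite.of_finite_image (f := fun y : X => closure ({y} : Set X))
    ((t.finite_toSet.biUnion fun x _ => hfin x).subset ?_) ?_
  · rintro _ ⟨y, ⟨hy, hyV⟩, rfl⟩
    obtain ⟨x, hx, hyx⟩ := Set.mem_iUnion₂.1 (ht hyV)
    refine Set.mem_iUnion₂.2 ⟨x, hx, ⟨isIrreducible_singleton.closure, fun Z hZ hle => ?_⟩, y, subset_closure rfl, hyx⟩
    obtain ⟨z, hz⟩ := QuasiSober.sober hZ.closure isClosed_closure
    have hzy : z ⤳ y := hz.specializes (subset_closure (hle (subset_closure rfl)))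
    rw [(GrothLib.WeakAss.isWeakAssPoint_structure_iff y).mp hy z hzy] at hz
    exact subset_closure.trans hz.def.ge
  · intro a _ b _ hab
    exact (inseparable_iff_closure_eq.mpr hab).eq

theorem hmax_of_reduced [IsReduced X] (a b : X) (ha : IsWA a) (_ : IsWA b) (hba : b ⤳ a) : b = a :=
  (GrothLib.WeakAss.isWeakAssPoint_structure_iff a).mp ha b hba

/-- All weakly associated points in one affine open. -/
theorem hasRegularMero_of_affine [IsLocallyNoetherian X] (hL : PicF.IsInvertible L) {W : X.Opens}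
    (hW : IsAffineOpen W) (hWA : ∀ y : X, IsWA y → y ∈ W) : Mero.HasRegularMero L := by
  classical
  have hT : {y : X | IsWA y}.Finite :=
    (locFiniteWA_of_noetherian ⟨W, hW⟩).subset fun y hy => ⟨hy, hWA y hy⟩
  let S : Set X := {a | IsWA a ∧ ∀ b, IsWA b → a ⤳ b → b = a}
  obtain ⟨O, s, hSO, hs⟩ := GrothLib.InvExt.exists_gen_nhd_of_finite hL hW S (hT.subset fun a ha => ha.1)
    (fun a ha => hWA a ha.1) fun a ha b hb hab => (ha.2 b hb.1 hab).symm
  refine hasRegularMero_of_gen_open locFiniteWA_of_noetherian hL O s hs fun y hy => ?_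
  -- choose a specialisation of `y` maximal among weakly associated points
  let T := {b : X | IsWA b ∧ y ⤳ b}
  have hTfin : T.Finite := hT.subset fun b hb => hb.1
  let r : X → ℕ := fun b => {c ∈ T | b ⤳ c}.ncard
  obtain ⟨b, hb, hmin⟩ := Set.exists_min_image T r hTfin ⟨y, hy, specializes_rfl⟩
  refine hb.2.mem_open O.2 (hSO ⟨hb.1, fun c hc hbc => ?_⟩)
  by_contra hne
  refine (hmin c ⟨hc, hb.2.trans hbc⟩).not_gt (Set.ncard_lt_ncard ?_ (hTfin.subset fun d hd => hd.1))
  refine ⟨fun d hd => ⟨hd.1, hbc.trans hd.2⟩, fun hsub => ?_⟩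
  exact hne ((hsub (show b ∈ {d ∈ T | b ⤳ d} from ⟨hb, specializes_rfl⟩)).2.antisymm hbc).eq

end GrothLib.Mero
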