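import Groth.Prelude.Def_CAlg
import Groth.Agent.Lib.Mero.Div
import Groth.Agent.Lib.Depth.Reduce

/-! # Meromorphic functions regular off depth one points -/

set_option autoImplicit false
universe u
open CategoryTheory AlgebraicGeometry TopologicalSpace Opposite RingTheory.Sequence
open scoped Pointwise

namespace GrothLib.Mero

variable {X : Scheme.{u}}

theorem smul_top_ne_top {R : Type u} [CommRing R] [IsLocalRing R] :
    IsLocalRing.maximalIdeal R • (⊤ : Submodule R R) ≠ ⊤ := by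
  intro h
  have h1 : IsLocalRing.maximalIdeal R = ⊤ := by
    rw [← h]
    exact le_antisymm (fun x hx => by simpa using Submodule.smul_mem_smul hx (Submodule.mem_top (x := (1 : R))))
      (Submodule.smul_le.mpr fun r hr n _ => Ideal.mul_mem_right n _ hr)
  exact (IsLocalRing.maximalIdeal.isMaximal R).ne_top h1

/-- If some `a ∉ (b)` is multiplied into `(b)` by elements with radical containing the maximal ideal, the depth is one. -/
theorem depth_eq_one {R : Type u} [CommRing R] [IsNoetherianRing R] [IsLocalRing R] {a b : R}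
    (hb : IsSMulRegular R b) (ha : ∀ c, a ≠ b * c)
    (hm : ∀ t ∈ IsLocalRing.maximalIdeal R, ∃ (n : ℕ) (c : R), t ^ n * a = b * c) :
    LocCoh.depth R R = 1 := by
  have hbm : b ∈ IsLocalRing.maximalIdeal R := by
    intro hu
    obtain ⟨v, rfl⟩ := hu
    exact ha (↑v⁻¹ * a) (by rw [Units.mul_inv_cancel_left])
  rw [LocCoh.depth, ← GrothLib.Depth.idealDepth_quotSMulTop_add_one _ hbm hb]
  suffices LocCoh.idealDepth (IsLocalRing.maximalIdeal R) (QuotSMulTop b R) = 0 by rw [this, zero_add]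
  have mem_iff : ∀ x : R, (Submodule.Quotient.mk x : QuotSMulTop b R) = 0 ↔ ∃ c, x = b * c := fun x => by
    rw [Submodule.Quotient.mk_eq_zero, Submodule.mem_smul_pointwise_iff_exists]
    exact ⟨fun ⟨c, _, hc⟩ => ⟨c, hc.symm⟩, fun ⟨c, hc⟩ => ⟨c, trivial, hc.symm⟩⟩
  by_contra hne
  have h1 : ((1 : ℕ) : ℕ∞) ≤ LocCoh.idealDepth (IsLocalRing.maximalIdeal R) (QuotSMulTop b R) := by
    exact_mod_cast ENat.one_le_iff_ne_zero.mpr hne
  have htop : IsLocalRing.maximalIdeal R • (⊤ : Submodule R (QuotSMulTop b R)) ≠ ⊤ := by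
    intro h
    have : ∃ x : QuotSMulTop b R, x ≠ 0 :=
      ⟨Submodule.Quotient.mk 1, fun h0 => by
        obtain ⟨c, hc⟩ := (mem_iff _).mp h0
        exact hbm (IsUnit.of_mul_eq_one c hc.symm)⟩
    obtain ⟨x, hx⟩ := this
    have := Submodule.eq_bot_of_le_smul_of_le_jacobson_bot (IsLocalRing.maximalIdeal R)
      (⊤ : Submodule R (QuotSMulTop b R)) Module.Finite.fg_top h.ge
      (IsLocalRing.maximalIdeal_le_jacobson _)
    exact hx ((Submodule.mem_bot R).mp (this ▸ Submodule.mem_top))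
  obtain ⟨rs, hlen, hmem, hreg⟩ := (GrothLib.Depth.le_idealDepth_iff_exists _ htop 1).mp h1
  obtain ⟨r, rfl⟩ := List.length_eq_one_iff.mp hlen
  rw [isWeaklyRegular_cons_iff] at hreg
  obtain ⟨n, c, hc⟩ := hm r (hmem r (List.mem_singleton_self r))
  have h0 : r ^ n • (Submodule.Quotient.mk a : QuotSMulTop b R) = 0 := by
    rw [← Submodule.Quotient.mk_smul, smul_eq_mul, mem_iff]
    exact ⟨c, hc⟩
  have : (Submodule.Quotient.mk a : QuotSMulTop b R) = 0 :=
    (hreg.1.pow n) (h0.trans (smul_zero (r ^ n)).symm)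
  obtain ⟨c, hc⟩ := (mem_iff _).mp this
  exact ha c hc

/-- A point where a meromorphic function is not regular, all of whose proper generisations are good, has depth one. -/
theorem depth_eq_one_of_not_mem [IsLocallyNoetherian X] {U : X.Opens} (f : Γ(Mero.kmod X, U)) {x : X}
    (hx : x ∈ U) (hnot : f.1 ⟨x, hx⟩ ∉ intRing x)
    (hgen : ∀ (z : X) (hz : z ⤳ x), z ≠ x → f.1 ⟨z, hz.mem_open U.2 hx⟩ ∈ intRing z) :
    LocCoh.depth (X.presheaf.stalk x) (X.presheaf.stalk x) = 1 := by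
  obtain ⟨W, hxW, i, a, b, hab⟩ := f.2 ⟨x, hx⟩
  replace hxW : x ∈ W := hxW
  obtain ⟨V, hxV, hVW⟩ := GrothLib.BlowUp.exists_affine_mem_le hxW
  let A : Γ(X, V.1) := X.presheaf.map (homOfLE hVW).op a
  let B : Γ(X, V.1) := X.presheaf.map (homOfLE hVW).op b.1
  have hB : ∀ y (hy : y ∈ V.1), IsSMulRegular (X.presheaf.stalk y) (X.presheaf.germ V.1 y hy B) := fun y hy => by
    simp only [B, TopCat.Presheaf.germ_res_apply]
    exact fun p q h => by
      have hr := b.2 ⟨y, hVW hy⟩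
      exact sub_eq_zero.mp (mem_nonZeroDivisors_iff_left.mp hr _ (by
        change X.presheaf.germ W y _ b.1 * p = X.presheaf.germ W y _ b.1 * q at h
        rw [mul_sub, h, sub_self]))
  have hval : ∀ y (hy : y ∈ V.1) (c : X.presheaf.stalk y),
      f.1 (i ⟨y, hVW hy⟩) = algebraMap _ (Mero.KStalk X y) c ↔
        X.presheaf.germ V.1 y hy A = X.presheaf.germ V.1 y hy B * c := by
    intro y hy c
    have e1 := hab ⟨y, hVW hy⟩
    dsimp only at e1
    rw [e1]
    simp only [A, B, TopCat.Presheaf.germ_res_apply]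
    exact mk_eq_algebraMap_iff _ _ _
  refine depth_eq_one (a := X.presheaf.germ V.1 x hxV A) (hB x hxV)
    (fun c hc => hnot ⟨c, ((hval x hxV c).mpr hc).symm⟩) fun t ht => ?_
  let J : Ideal (X.presheaf.stalk x) :=
    (Ideal.span {X.presheaf.germ V.1 x hxV B}).colon {X.presheaf.germ V.1 x hxV A}
  have hmemJ : ∀ r, r ∈ J ↔ ∃ c, r * X.presheaf.germ V.1 x hxV A = X.presheaf.germ V.1 x hxV B * c := fun r => by
    rw [Submodule.mem_colon_singleton, smul_eq_mul, Ideal.mem_span_singleton]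
    rfl
  suffices t ∈ J.radical by
    obtain ⟨n, hn⟩ := this
    obtain ⟨c, hc⟩ := (hmemJ _).mp hn
    exact ⟨n, c, hc⟩
  rw [Ideal.radical_eq_sInf, Submodule.mem_sInf]
  rintro q ⟨hJq, hq⟩
  let _ := X.presheaf.algebra_section_stalk ⟨x, hxV⟩
  have hloc := V.2.isLocalization_stalk ⟨x, hxV⟩
  let P : PrimeSpectrum Γ(X, V.1) := ⟨Ideal.comap (algebraMap Γ(X, V.1) (X.presheaf.stalk x)) q, Ideal.IsPrime.comap _⟩
  have hPle : P.asIdeal ≤ (V.2.primeIdealOf ⟨x, hxV⟩).asIdeal := by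
    intro s hs
    by_contra hs'
    exact hq.ne_top (Ideal.eq_top_of_isUnit_mem _ hs
      (IsLocalization.map_units (X.presheaf.stalk x) (⟨s, hs'⟩ : (V.2.primeIdealOf ⟨x, hxV⟩).asIdeal.primeCompl)))
  have hzx : V.2.fromSpec P ⤳ x := by
    have h1 := ((PrimeSpectrum.le_iff_specializes _ _).mp hPle).map V.2.fromSpec.continuous
    rwa [V.2.fromSpec_primeIdealOf] at h1
  have hzV : V.2.fromSpec P ∈ V.1 := V.2.range_fromSpec.le ⟨P, rfl⟩
  by_cases hz : V.2.fromSpec P = x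
  · have hPx : P = V.2.primeIdealOf ⟨x, hxV⟩ :=
      V.2.fromSpec.isOpenEmbedding.injective (hz.trans (V.2.fromSpec_primeIdealOf ⟨x, hxV⟩).symm)
    obtain ⟨⟨s, u⟩, hsu⟩ := IsLocalization.surj (V.2.primeIdealOf ⟨x, hxV⟩).asIdeal.primeCompl t
    dsimp only at hsu
    have hs : s ∈ P.asIdeal := by
      rw [hPx]
      by_contra hs
      have hu := IsLocalization.map_units (X.presheaf.stalk x) (⟨s, hs⟩ : (V.2.primeIdealOf ⟨x, hxV⟩).asIdeal.primeCompl)
      rw [← hsu] at hu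
      exact ht (isUnit_of_mul_isUnit_left hu)
    change algebraMap _ _ s ∈ q at hs
    rw [← hsu] at hs
    exact (hq.mem_or_mem hs).resolve_right fun h => hq.ne_top (Ideal.eq_top_of_isUnit_mem _ h
      (IsLocalization.map_units (X.presheaf.stalk x) u))
  exfalso
  have hPz : GrothLib.WeakAss.primeAt (V.2.fromSpec P) hzV = P.asIdeal :=
    GrothLib.WeakAss.primeAt_fromSpec V.2 P hzV
  obtain ⟨c, hc⟩ := hgen _ hzx hz
  have hcz := (hval _ hzV c).mp hc.symm
  let _ := X.presheaf.algebra_section_stalk ⟨V.2.fromSpec P, hzV⟩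
  have := V.2.isLocalization_stalk ⟨V.2.fromSpec P, hzV⟩
  obtain ⟨⟨γ, σ⟩, hσ⟩ := IsLocalization.surj (V.2.primeIdealOf ⟨V.2.fromSpec P, hzV⟩).asIdeal.primeCompl c
  dsimp only at hσ
  change c * X.presheaf.germ V.1 _ hzV σ.1 = X.presheaf.germ V.1 _ hzV γ at hσ
  have h0 : X.presheaf.germ V.1 _ hzV (A * σ.1 - B * γ) = 0 := by
    rw [map_sub, map_mul, map_mul, hcz, ← hσ, mul_assoc, sub_self]
  obtain ⟨s, hs, hs0⟩ := exists_mul_eq_zero_of_germ V.2 hzV h0
  have hσP : σ.1 ∉ GrothLib.WeakAss.primeAt (V.2.fromSpec P) hzV :=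
    GrothLib.WeakAss.notMem_primeAt_iff.mpr ((Scheme.mem_basicOpen _ _ _ hzV).mpr
      (IsLocalization.map_units (X.presheaf.stalk (V.2.fromSpec P)) σ))
  rw [hPz] at hs hσP
  refine (P.isPrime.mem_or_mem (show s * σ.1 ∈ P.asIdeal from hJq ((hmemJ _).mpr
    ⟨X.presheaf.germ V.1 x hxV (s * γ), ?_⟩))).elim hs hσP
  change X.presheaf.germ V.1 x hxV (s * σ.1) * _ = _
  rw [← map_mul, ← map_mul]
  congr 1
  linear_combination hs0

/-- A nonempty set of generisations of a point has a maximal element. -/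
theorem exists_maximal [IsLocallyNoetherian X] {S : Set X} {x : X} (hx : x ∈ S) :
    ∃ z ∈ S, z ⤳ x ∧ ∀ w ∈ S, w ⤳ z → w = z := by
  obtain ⟨V, hxV, -⟩ := GrothLib.BlowUp.exists_affine_mem_le (Opens.mem_top x : x ∈ (⊤ : X.Opens))
  have hN : IsNoetherianRing Γ(X, V.1) := IsLocallyNoetherian.component_noetherian V
  let T : Set (PrimeSpectrum Γ(X, V.1)) := {p | V.2.fromSpec p ∈ S ∧ V.2.fromSpec p ⤳ x}
  have hT : T.Nonempty := ⟨V.2.primeIdealOf ⟨x, hxV⟩, by
    rw [Set.mem_setOf, V.2.fromSpec_primeIdealOf]; exact ⟨hx, specializes_rfl⟩⟩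
  obtain ⟨_, ⟨p, hp, rfl⟩, hmin⟩ :=
    (wellFounded_lt (α := ℕ∞)).has_min ((fun p : PrimeSpectrum Γ(X, V.1) => p.asIdeal.height) '' T) (hT.image _)
  refine ⟨_, hp.1, hp.2, fun w hw hwz => ?_⟩
  obtain ⟨q, rfl⟩ := V.2.range_fromSpec.ge (SetLike.mem_coe.mpr (hwz.mem_open V.1.2 (V.2.range_fromSpec.le ⟨p, rfl⟩)))
  have hle : q.asIdeal ≤ p.asIdeal := (PrimeSpectrum.le_iff_specializes q p).mpr
    (V.2.fromSpec.isOpenEmbedding.isInducing.specializes_iff.mp hwz)
  rcases hle.eq_or_lt with h | h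
  · rw [PrimeSpectrum.ext h]
  · exact absurd (Ideal.height_strict_mono_of_isPrime h) (hmin _ ⟨q, ⟨hw, hwz.trans hp.2⟩, rfl⟩)

theorem isEffectiveAt_of_mem [IsLocallyNoetherian X] {D : Mero.Divisor X} {x : X} {g : (Mero.KStalk X x)ˣ}
    (hg : D.1 x = QuotientGroup.mk g) (h : (g : Mero.KStalk X x) ∈ intRing x) : Mero.IsEffectiveAt D x := by
  obtain ⟨c, hc⟩ := h
  have hcr : c ∈ Mero.regStalk X x := by
    rw [regStalk_eq locFiniteWA_of_noetherian, mem_nonZeroDivisors_iff_left]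
    intro y hy
    refine Mero.algebraMap_KStalk_injective x ?_
    rw [map_zero]
    refine g.isUnit.mul_right_eq_zero.mp ?_
    rw [← hc, ← map_mul, hy, map_zero]
  refine ⟨⟨c, hcr⟩, hg.trans (congrArg QuotientGroup.mk (Units.ext ?_))⟩
  rw [IsUnit.unit_spec]
  exact hc.symm

theorem mem_of_isEffectiveAt {D : Mero.Divisor X} {x : X} {g : (Mero.KStalk X x)ˣ}
    (hg : D.1 x = QuotientGroup.mk g) (h : Mero.IsEffectiveAt D x) : (g : Mero.KStalk X x) ∈ intRing x := by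
  obtain ⟨a, ha⟩ := h
  have := ((mem_stalkUnits_iff _).mp (QuotientGroup.eq.mp (ha.symm.trans hg))).1
  have h2 := mul_mem (show algebraMap _ (Mero.KStalk X x) a.1 ∈ intRing x from ⟨a.1, rfl⟩) this
  convert h2 using 1
  rw [Units.val_mul, ← mul_assoc, IsUnit.mul_val_inv, one_mul]

/-- Effectivity outside depth one points. -/
theorem isEffective_of_depth_one [IsLocallyNoetherian X] (D : Mero.Divisor X)
    (h : ∀ x : X, LocCoh.depth (X.presheaf.stalk x) (X.presheaf.stalk x) = 1 → Mero.IsEffectiveAt D x) :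
    Mero.IsEffective D := by
  intro x
  by_contra hx
  obtain ⟨z, hz, -, hmax⟩ := exists_maximal (S := {y | ¬ Mero.IsEffectiveAt D y}) hx
  obtain ⟨U, hzU, f, hf⟩ := D.2 z
  refine hz (h z (depth_eq_one_of_not_mem (f : Γ(Mero.kmod X, U)) hzU ?_ fun w hw hne => ?_))
  · exact fun hm => hz (isEffectiveAt_of_mem (hf ⟨z, hzU⟩) hm)
  · refine mem_of_isEffectiveAt (hf ⟨w, hw.mem_open U.2 hzU⟩) ?_
    by_contra hc
    exact hne (hmax w hc hw)

end GrothLib.Mero
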