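import Groth.Agent.Lib.Mero.DivTensor
import Groth.Agent.Lib.Mero.Criteria
import Groth.Agent.Lib.Ample.Twisting
import Groth.Agent.Lib.QCoh.SchSupport
import Groth.Agent.Lib.QCoh.Extension
import Groth.Agent.Lib.Euler.Coh
import Groth.Agent.Lib.Cohom.Exact
import Groth.Prelude.Def_PicF2

/-! # Zero schemes of regular sections of invertible modules -/

set_option autoImplicit false
set_option backward.isDefEq.respectTransparency false
universe u
open CategoryTheory CategoryTheory.Limits AlgebraicGeometry TopologicalSpace Opposite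
open GrothLib.InvExt (mres IsGen)

namespace GrothLib.Mero.Zero

theorem secVal_eq_mres {X : Scheme.{u}} (L : X.Modules) (s : Coh.structureModule X ⟶ L) (W : X.Opens) :
    (show Γ(L, W) from PicF2.secVal L s W) =
      mres L (le_top : W ≤ ⊤) (show Γ(L, ⊤) from PicF2.secVal L s ⊤) := by
  refine Eq.trans ?_ (Ample.app_mres s (le_top : W ≤ ⊤)
    (show Γ(Coh.structureModule X, ⊤) from (1 : X.ringCatSheaf.obj.obj (op ⊤))))
  exact congrArg (fun z : Γ(X, W) => s.app W z) (map_one (X.presheaf.map (homOfLE (le_top : W ≤ ⊤)).op).hom).symm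

theorem app_eq_smul_secVal {X : Scheme.{u}} (L : X.Modules) (s : Coh.structureModule X ⟶ L) (U : X.Opens)
    (b : Γ(X, U)) : s.app U b = b • (show Γ(L, U) from PicF2.secVal L s U) := by
  refine Eq.trans ?_ ((s.val.app (op U)).hom.map_smul b (1 : X.ringCatSheaf.obj.obj (op U)))
  exact congrArg (s.val.app (op U)).hom (mul_one b).symm

/-- On any scheme the zero scheme of a monomorphic section has the expected ideals. -/
theorem zeroScheme_ideal {X : Scheme.{u}} {L : X.Modules} (hL : PicF.IsInvertible L)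
    (s : Coh.structureModule X ⟶ L) [Mono s] (U : X.affineOpens) :
    (PicF2.zeroScheme L s).ideal U = (show Ideal Γ(X, U) from PicF2.zeroIdealOn L s U.1) := by
  have hO : Coh.IsCoh (Coh.structureModule X) := Euler.isCoh_of_isInvertible Euler.isInvertible_structure
  have hQ : Coh.IsCoh (cokernel s) := QCoh.isCoh_cokernel s hO (Euler.isCoh_of_isInvertible hL)
  haveI := hQ.1
  let S : ShortComplex X.Modules := ShortComplex.mk s (cokernel.π s) (cokernel.condition s)
  have hS : S.ShortExact := by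
    haveI : Mono S.f := ‹Mono s›
    exact { exact := ShortComplex.exact_of_g_is_cokernel _ (cokernelIsCokernel s) }
  haveI : S.X₁.IsQuasicoherent := hO.1
  have hideal : (fun U : X.affineOpens => show Ideal Γ(X, U) from PicF2.zeroIdealOn L s U.1) =
      (QCoh.annIdeal (cokernel s) hQ.2).ideal := by
    funext U
    ext a
    rw [QCoh.annIdeal_ideal, Module.mem_annihilator]
    constructor
    · intro h q
      obtain ⟨m, rfl⟩ := QCoh.app_surjective_of_isAffineOpen hS U.2 q
      obtain ⟨b, hb⟩ := h m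
      refine (Ample.app_smul (cokernel.π s) a m).symm.trans ?_
      refine (congrArg ((cokernel.π s).app U.1) (hb.trans (app_eq_smul_secVal L s U.1 b).symm)).trans ?_
      rw [← ConcreteCategory.comp_apply, ← Scheme.Modules.Hom.comp_app, cokernel.condition]
      rfl
    · intro h m
      obtain ⟨b, hb⟩ := Cohom.sections_exact (QCoh.toAbFun_map_shortExact S hS) U.1
        ((show Γ(X, U.1) from a) • (show Γ(L, U.1) from m))
        ((Ample.app_smul (cokernel.π s) a m).trans (h _))
      exact ⟨b, hb.symm.trans (app_eq_smul_secVal L s U.1 b)⟩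
  rw [PicF2.zeroScheme, hideal, Scheme.IdealSheafData.ofIdeals_ideal]
  exact (congrFun hideal U).symm

/-- The section, as a global section of `L`. -/
noncomputable abbrev gsecOf {X : Scheme.{u}} {L : X.Modules} (s : Coh.structureModule X ⟶ L) (U : X.Opens) : Γ(L, U) :=
  PicF2.secVal L s U

variable {X : Scheme.{u}} {L : X.Modules}

theorem gsecOf_mres (s : Coh.structureModule X ⟶ L) {U V : X.Opens} (h : V ≤ U) :
    mres L h (gsecOf s U) = gsecOf s V := by
  have hU : gsecOf s U = mres L le_top (gsecOf s ⊤) := secVal_eq_mres L s U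
  have hV : gsecOf s V = mres L le_top (gsecOf s ⊤) := secVal_eq_mres L s V
  rw [hU, hV, GrothLib.InvExt.mres_mres]

/-- Near every point the section is a regular function times a generator. -/
def IsRegularSec (s : Coh.structureModule X ⟶ L) : Prop :=
  ∀ x : X, ∃ (V : X.Opens) (e : Γ(L, V)) (c : Γ(X, V)), x ∈ V ∧ IsGen L V e ∧ c ∈ Mero.regSub X V ∧
    gsecOf s V = c • e

theorem eq_zero_of_smul_gsec {s : Coh.structureModule X ⟶ L} (h : IsRegularSec s) {U : X.Opens} (b : Γ(X, U))
    (hb : b • gsecOf s U = 0) : b = 0 := by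
  refine TopCat.Presheaf.section_ext X.sheaf U b 0 fun x hx => ?_
  change X.presheaf.germ U x hx b = X.presheaf.germ U x hx 0
  rw [map_zero]
  obtain ⟨V, e, c, hxV, he, hc, hs⟩ := h x
  have h1 := congrArg (L.presheaf.germ U x hx) hb
  rw [Mero.germ_smul, map_zero, ← germ_mres L (inf_le_left : U ⊓ V ≤ U) (⟨hx, hxV⟩ : x ∈ U ⊓ V), gsecOf_mres,
    ← gsecOf_mres s (inf_le_right : U ⊓ V ≤ V), germ_mres, hs, Mero.germ_smul, smul_smul] at h1
  exact mem_nonZeroDivisors_iff_right.1 (hc ⟨x, hxV⟩) _ (gen_smul_eq_zero he hxV h1)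

theorem mono_of_regularSec {s : Coh.structureModule X ⟶ L} (h : IsRegularSec s) : Mono s := by
  haveI : Mono ((Scheme.Modules.toPresheaf X).map s) := by
    rw [NatTrans.mono_iff_mono_app]
    intro U
    rw [AddCommGrpCat.mono_iff_injective]
    refine (injective_iff_map_eq_zero _).mpr fun b hb => eq_zero_of_smul_gsec h (U := U.unop) b ?_
    exact (app_eq_smul_secVal L s U.unop b).symm.trans hb
  exact (Scheme.Modules.toPresheaf X).mono_of_mono_map this

theorem zeroScheme_ideal_gen (hL : PicF.IsInvertible L) {s : Coh.structureModule X ⟶ L} (h : IsRegularSec s)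
    (U : X.affineOpens) {e : Γ(L, U.1)} (he : IsGen L U.1 e) {c : Γ(X, U.1)} (hc : gsecOf s U.1 = c • e) :
    (PicF2.zeroScheme L s).ideal U = Ideal.span {c} := by
  haveI := mono_of_regularSec h
  rw [zeroScheme_ideal hL s U]
  ext a
  rw [Ideal.mem_span_singleton]
  have hself : mres L (le_refl U.1) e = e := GrothLib.InvExt.mres_self L e
  constructor
  · intro ha
    obtain ⟨b, hb⟩ := ha e
    refine ⟨b, he.smul_left_injective le_rfl ?_⟩
    rw [hself]
    change (show Γ(X, U.1) from a) • e = (show Γ(X, U.1) from b) • gsecOf s U.1 at hb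
    rw [hb, hc, smul_smul, mul_comm]
  · rintro ⟨b, hb⟩ m
    obtain ⟨d, hd⟩ := he.exists_smul_eq le_rfl m
    rw [hself] at hd
    refine ⟨(b * d : Γ(X, U.1)), ?_⟩
    change (show Γ(X, U.1) from a) • (show Γ(L, U.1) from m) = (b * d : Γ(X, U.1)) • gsecOf s U.1
    rw [hd, hc, hb, smul_smul, smul_smul]
    congr 1
    ring

section Integral

variable [IsIntegral X]

theorem germ_eq_zero_integral {U : X.Opens} {y : X} (hy : y ∈ U) {a : Γ(X, U)}
    (h : X.presheaf.germ U y hy a = 0) : a = 0 :=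
  germ_injective_of_isIntegral X y hy (h.trans (map_zero _).symm)

theorem mem_regSub_of_ne_zero {U : X.Opens} {a : Γ(X, U)} (h : a ≠ 0) : a ∈ Mero.regSub X U := fun y =>
  mem_nonZeroDivisors_of_ne_zero fun h0 => h (germ_eq_zero_integral y.2 h0)

theorem isRegularSec_of_ne_zero (hL : PicF.IsInvertible L) {s : Coh.structureModule X ⟶ L} (hs : s ≠ 0) :
    IsRegularSec s := by
  intro x
  obtain ⟨V, e, hxV, he⟩ := GrothLib.InvExt.exists_gen_nhd hL x
  obtain ⟨c, hc⟩ := he.exists_smul_eq le_rfl (gsecOf s V)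
  rw [GrothLib.InvExt.mres_self] at hc
  refine ⟨V, e, c, hxV, he, mem_regSub_of_ne_zero fun hc0 => hs ?_, hc⟩
  refine Scheme.Modules.hom_ext _ _ fun U => ?_
  ext b
  refine (app_eq_smul_secVal L s U b).trans ?_
  change (show Γ(X, U) from b) • gsecOf s U = 0
  suffices h0 : gsecOf s U = 0 by rw [h0, smul_zero]
  refine TopCat.Presheaf.section_ext ⟨L.presheaf, L.isSheaf⟩ U _ _ fun y hy => ?_
  change L.presheaf.germ U y hy (gsecOf s U) = L.presheaf.germ U y hy 0
  rw [map_zero]
  obtain ⟨W, e', hyW, he'⟩ := GrothLib.InvExt.exists_gen_nhd hL y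
  obtain ⟨c', hc'⟩ := he'.exists_smul_eq le_rfl (gsecOf s W)
  rw [GrothLib.InvExt.mres_self] at hc'
  have hη : ∀ {O : X.Opens} {z : X}, z ∈ O → genericPoint X ∈ O := fun {O z} hz =>
    (genericPoint_specializes z).mem_open O.2 hz
  have hglob : ∀ {O : X.Opens} {z : X} (hz : z ∈ O), L.presheaf.germ O z hz (gsecOf s O) =
      L.presheaf.germ ⊤ z trivial (gsecOf s ⊤) := fun {O z} hz => by
    rw [← gsecOf_mres s (le_top : O ≤ ⊤), germ_mres]
  have h1 : L.presheaf.germ W (genericPoint X) (hη hyW) (gsecOf s W) = 0 := by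
    rw [hglob, ← hglob (hη hxV), hc, hc0, zero_smul, map_zero]
  have hc'0 : c' = 0 := by
    rw [hc', Mero.germ_smul] at h1
    exact germ_eq_zero_integral (hη hyW) (gen_smul_eq_zero he' (hη hyW) h1)
  rw [hglob hy, ← hglob hyW, hc', hc'0, zero_smul, map_zero]

end Integral

/-- The divisor of a regular section. -/
theorem exists_divisor (hL : PicF.IsInvertible L) {s : Coh.structureModule X ⟶ L} (h : IsRegularSec s) :
    ∃ D : Mero.Divisor X, Mero.IsDivOfIdeal D (PicF2.zeroScheme L s) ∧
      ∃ e : L ≅ Mero.divMod D, ∀ (U : X.Opens) (y : U), (e.hom.app U (gsecOf s U)).1 y = 1 := by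
  let σ : Γ(Mero.merMod L, ⊤) := Mero.toMerFun L ⊤ (gsecOf s ⊤)
  have hσ : ∀ (U : X.Opens) (y : X) (hy : y ∈ U), σ.1 ⟨y, Opens.mem_top y⟩ =
      (LocalizedModule.mk (L.presheaf.germ U y hy (gsecOf s U)) 1 : Mero.MStalk L y) := fun U y hy => by
    refine Mero.mk_congr ?_ rfl
    rw [← gsecOf_mres s (le_top : U ≤ ⊤), germ_mres]
  have hreg : Mero.IsRegularMero L σ := by
    intro y q hq
    obtain ⟨V, e, c, hyV, he, hc, hs⟩ := h y
    rw [hσ V y hyV, hs, Mero.germ_smul, ← LocalizedModule.smul'_mk, ← algebraMap_smul (Mero.KStalk X y)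
      (X.presheaf.germ V y hyV c), smul_smul] at hq
    exact (IsLocalization.map_units (Mero.KStalk X y) (Mero.regGerm ⟨y, hyV⟩ ⟨c, hc⟩)).mul_left_eq_zero.mp
      (mstalk_smul_eq_zero he hyV hq)
  obtain ⟨D, φ, hD, hφ⟩ := exists_iso_divMod_data hL hreg
  refine ⟨D, fun x => ?_, φ, fun U y => smul_right_inj_of_regular hreg ?_⟩
  · obtain ⟨V, e, c, hxV, he, hc, hs⟩ := h x
    obtain ⟨U, hxU, hUV⟩ := GrothLib.BlowUp.exists_affine_mem_le hxV
    have heU := he.restrict hUV
    have hcU : X.presheaf.map (homOfLE hUV).op c ∈ Mero.regSub X U.1 := Mero.regSub_res _ hc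
    have hsU : gsecOf s U.1 = (X.presheaf.map (homOfLE hUV).op c : Γ(X, U.1)) • mres L hUV e := by
      rw [← gsecOf_mres s hUV, hs, GrothLib.InvExt.mres_smul]
    refine ⟨U, hxU, _, hcU, zeroScheme_ideal_gen hL h U heU hsU, fun y => ?_⟩
    refine (hD U.1 _ heU (isUnit_toK U.1 hcU).unit (fun z => ?_) y).trans (congrArg QuotientGroup.mk (Units.ext ?_))
    · rw [hσ U.1 z.1 z.2, hsU, Mero.germ_smul, ← LocalizedModule.smul'_mk,
        ← algebraMap_smul (Mero.KStalk X z.1) (X.presheaf.germ U.1 z.1 z.2 _), IsUnit.unit_spec, toK_apply_eq]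
    · rw [IsUnit.unit_spec]
      exact (congrArg (fun t : Γ(Mero.kmod X, U.1) => t.1 y) (isUnit_toK U.1 hcU).unit_spec).trans (toK_apply_eq _ _)
  · rw [hφ, one_smul, hσ U y.1 y.2]

end GrothLib.Mero.Zero
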